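import Cfsg.Agent.Lib.J4Type.Model.Exists
import Cfsg.Agent.Lib.J4Type.Gens
import Cfsg.Agent.Lib.J4Type.Local

/-!
Every group of Janko-four type at `z` has the model context.
-/

set_option autoImplicit false

namespace CfsgLib.J4Type

universe u

/-- Janko-four type at `z` has the model of the action of `C(z) / O_2(C(z))`. -/
theorem exists_ctx {G : Type u} [Group G] [Finite G] {z : G} {P : Subgroup G}
    (h : Cfsg.IsOfJankoFourTypeWith z P) : Nonempty (Ctx z P) := by
  obtain ⟨D, hfix, hP⟩ := exists_gens h
  obtain ⟨M, hM⟩ := exists_model (R := (ext13_of h).rep) D hfix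
  exact ⟨⟨h, M, by rw [hM]; exact hP⟩⟩

end CfsgLib.J4Type
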