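import Cfsg.Agent.Lib.J4Type.Model.Halves
import Cfsg.Agent.Lib.J4Type.Classify
import Cfsg.Agent.Lib.J4Type.Enc

/-!
Coordinates adapted to the two halves, in which the scalar and the form are the fixed ones.
-/

set_option autoImplicit false
set_option linter.unusedSectionVars false

namespace CfsgLib.J4Type.ModelExists

open CfsgLib.FischerTwoFour (QRep)
open Classify (IsLin Sym tl tl_lt)

variable {H V : Type*} [Group H] [AddCommGroup V] (R : QRep H V) (D : Gens H)

/-- Coordinates adapted to the two halves. -/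
structure Coord where
  dec : ℕ → V
  dec_xor : ∀ a < 4096, ∀ b < 4096, dec (Nat.xor a b) = dec a + dec b
  dec_inj : ∀ a < 4096, ∀ b < 4096, dec a = dec b → a = b
  dec_surj : ∀ v, ∃ a < 4096, dec a = v
  dec_q : ∀ a < 4096, R.q (dec a) = if qn a then 1 else 0
  dec_t : ∀ a < 4096, R.ρ D.t (dec a) = dec (app colsT a)
  low : ∀ a < 4096, dec a ∈ fixW R D ↔ a < 64
  high : ∀ a < 4096, dec a ∈ fixW' R D ↔ a % 64 = 0

/-- The basis vectors of the first half. -/
def gW (e : Fin 3 → V) (i : ℕ) : V :=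
  if i % 2 = 0 then e ⟨i / 2 % 3, Nat.mod_lt _ (by norm_num)⟩
  else R.ρ D.t (R.ρ D.t (e ⟨i / 2 % 3, Nat.mod_lt _ (by norm_num)⟩))

theorem gW_two (e : Fin 3 → V) (j : ℕ) : gW R D e (2 * j) = e ⟨j % 3, Nat.mod_lt _ (by norm_num)⟩ ∧
    gW R D e (2 * j + 1) = R.ρ D.t (R.ρ D.t (e ⟨j % 3, Nat.mod_lt _ (by norm_num)⟩)) := by
  have h1 : 2 * j / 2 = j := by omega
  have h2 : (2 * j + 1) / 2 = j := by omega
  have h3 : ¬ (2 * j + 1) % 2 = 0 := by omega
  constructor
  · simp [gW, h1]
  · simp [gW, h2, h3]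

/-- The element of the first half with the given code. -/
def encW (e : Fin 3 → V) (x : ℕ) : V := J4Type.enc (gW R D e) 6 x

theorem encW_xor (e : Fin 3 → V) (a b : ℕ) : encW R D e (Nat.xor a b) = encW R D e a + encW R D e b :=
  J4Type.enc_xor R.two _ _ a b

theorem encW_zero (e : Fin 3 → V) : encW R D e 0 = 0 := J4Type.enc_zero _ _

theorem encW_mem {e : Fin 3 → V} (he : ∀ j, e j ∈ fixW R D) (x : ℕ) : encW R D e x ∈ fixW R D := by
  have ht : ∀ v ∈ fixW R D, R.ρ D.t v ∈ fixW R D := fun v hv =>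
    ac_fixW R D (Subgroup.subset_closure (by simp)) hv
  show J4Type.enc (gW R D e) 6 x ∈ fixW R D
  refine sum_mem fun i _ => ?_
  split
  swap
  · exact zero_mem _
  rw [gW]; split
  · exact he _
  · exact ht _ (ht _ (he _))

theorem encW_congr {e e' : Fin 3 → V} {j : ℕ} (h : ∀ i : Fin 3, i.val < j → e i = e' i) {x : ℕ}
    (hx : x < 4 ^ j) : encW R D e x = encW R D e' x := by
  unfold encW J4Type.enc
  refine Finset.sum_congr rfl fun i hi => ?_
  by_cases hb : Nat.testBit x i = true
  · have hi6 : i < 6 := Finset.mem_range.1 hi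
    have h4 : i < 2 * j := by
      by_contra hc
      have : (2 : ℕ) ^ (2 * j) ≤ 2 ^ i := Nat.pow_le_pow_right (by norm_num) (not_lt.1 hc)
      rw [pow_mul] at this
      norm_num at this
      rw [Nat.testBit_lt_two_pow (by omega)] at hb
      exact absurd hb (by simp)
    have he : e ⟨i / 2 % 3, Nat.mod_lt _ (by norm_num)⟩ = e' ⟨i / 2 % 3, Nat.mod_lt _ (by norm_num)⟩ :=
      h _ (show i / 2 % 3 < j by omega)
    rw [if_pos hb, if_pos hb, gW, gW, he]
  · rw [if_neg hb, if_neg hb]

section Fpf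

variable (hfix : ∀ v, R.ρ D.t v = v → v = 0)

include hfix

theorem encW_t (e : Fin 3 → V) : ∀ x < 64, R.ρ D.t (encW R D e x) = encW R D e (tl x) := by
  have h2 := t_sq R D hfix
  refine J4Type.xor_ext (· + ·) 6 (fun x => R.ρ D.t (encW R D e x)) (fun x => encW R D e (tl x))
    (fun a b _ _ => by rw [encW_xor, map_add]) (fun a b _ _ => by rw [Classify.tl_xor, encW_xor])
    (by rw [encW_zero, map_zero, show tl 0 = 0 by decide, encW_zero]) fun i hi => ?_
  show R.ρ D.t (encW R D e (2 ^ i)) = encW R D e (tl (2 ^ i))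
  rw [encW, J4Type.enc_two_pow _ hi]
  have cube : ∀ v, R.ρ D.t (R.ρ D.t (R.ρ D.t v)) = v := fun v => by
    rw [← R.mul_apply, ← R.mul_apply, show D.t * D.t * D.t = D.t ^ 3 by rw [pow_three, mul_assoc], D.t_cube,
      R.one_apply]
  have even : ∀ j : ℕ, j < 3 → R.ρ D.t (gW R D e (2 * j)) = gW R D e (2 * j) + gW R D e (2 * j + 1) := fun j _ => by
    rw [(gW_two R D e _).1, (gW_two R D e _).2, h2 (e _), add_comm, add_assoc, R.two, add_zero]
  have odd : ∀ j : ℕ, j < 3 → R.ρ D.t (gW R D e (2 * j + 1)) = gW R D e (2 * j) := fun j _ => by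
    rw [(gW_two R D e _).1, (gW_two R D e _).2, cube]
  have p : ∀ k, k < 6 → encW R D e (2 ^ k) = gW R D e k := fun k hk => J4Type.enc_two_pow _ hk
  interval_cases i
  · rw [show tl (2 ^ 0) = Nat.xor (2 ^ 0) (2 ^ 1) by decide, encW_xor, p 0 (by norm_num), p 1 (by norm_num)]
    exact even 0 (by norm_num)
  · rw [show tl (2 ^ 1) = 2 ^ 0 by decide, p 0 (by norm_num)]; exact odd 0 (by norm_num)
  · rw [show tl (2 ^ 2) = Nat.xor (2 ^ 2) (2 ^ 3) by decide, encW_xor, p 2 (by norm_num), p 3 (by norm_num)]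
    exact even 1 (by norm_num)
  · rw [show tl (2 ^ 3) = 2 ^ 2 by decide, p 2 (by norm_num)]; exact odd 1 (by norm_num)
  · rw [show tl (2 ^ 4) = Nat.xor (2 ^ 4) (2 ^ 5) by decide, encW_xor, p 4 (by norm_num), p 5 (by norm_num)]
    exact even 2 (by norm_num)
  · rw [show tl (2 ^ 5) = 2 ^ 4 by decide, p 4 (by norm_num)]; exact odd 2 (by norm_num)

theorem encW_range {e : Fin 3 → V} {j : ℕ} (hj : j < 3) :
    ∃ v ∈ fixW R D, ∀ x < 4 ^ j, encW R D e x ≠ v := by
  haveI := finite_V R
  by_contra hh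
  push Not at hh
  have h64 := (halves R D hfix).1
  choose f hf hfe using fun v : fixW R D => hh v v.2
  have hinj : Function.Injective (fun v : fixW R D => (⟨f v, hf v⟩ : Fin (4 ^ j))) := fun v w e' =>
    Subtype.ext (by rw [← hfe v, ← hfe w, show f v = f w from congrArg Fin.val e'])
  have := Nat.card_le_card_of_injective _ hinj
  rw [h64, Nat.card_fin] at this
  interval_cases j <;> norm_num at this

theorem exists_basisW : ∃ e : Fin 3 → V, (∀ j, e j ∈ fixW R D) ∧ ∀ x < 64, encW R D e x = 0 → x = 0 := by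
  obtain ⟨a, ha, ha'⟩ := encW_range R D hfix (e := fun _ => 0) (j := 0) (by norm_num)
  obtain ⟨b, hb, hb'⟩ := encW_range R D hfix (e := ![a, 0, 0]) (j := 1) (by norm_num)
  obtain ⟨c, hc, hc'⟩ := encW_range R D hfix (e := ![a, b, 0]) (j := 2) (by norm_num)
  let e : Fin 3 → V := ![a, b, c]
  have he : ∀ j, e j ∈ fixW R D := fun j => by fin_cases j <;> assumption
  have k1 : ∀ x < 4 ^ 1, encW R D e x = encW R D ![a, 0, 0] x := fun x hx =>
    encW_congr R D (fun i hi => by
      have : i = 0 := Fin.ext (by omega)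
      subst this; rfl) hx
  have k2 : ∀ x < 4 ^ 2, encW R D e x = encW R D ![a, b, 0] x := fun x hx =>
    encW_congr R D (fun i hi => by fin_cases i <;> first | rfl | simp at hi) hx
  have p : ∀ k, k < 6 → encW R D e (2 ^ k) = gW R D e k := fun k hk => J4Type.enc_two_pow _ hk
  have ker_t : ∀ x < 64, encW R D e x = 0 → encW R D e (tl x) = 0 := fun x hx h => by
    rw [← encW_t R D hfix e x hx, h, map_zero]
  have cases16 : ∀ x < 64, ¬ x < 16 → x / 16 = 1 ∨ tl x / 16 = 1 ∨ tl (tl x) / 16 = 1 := by decide +kernel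
  have cases4 : ∀ x < 16, ¬ x < 4 → (x / 4 = 1 ∨ tl x / 4 = 1 ∨ tl (tl x) / 4 = 1) := by decide +kernel
  have cases1 : ∀ x < 4, x ≠ 0 → x = 1 ∨ tl x = 1 ∨ tl (tl x) = 1 := by decide +kernel
  have low16 : ∀ y, y / 16 = 1 → encW R D e y ≠ 0 := fun y hy h => by
    have e' : y = Nat.xor (2 ^ 4) (y % 16) := by
      have : ∀ y < 32, 16 ≤ y → y = Nat.xor (2 ^ 4) (y % 16) := by decide +kernel
      exact this y (by omega) (by omega)
    rw [e', encW_xor, p 4 (by norm_num), k2 _ (by norm_num; omega)] at h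
    exact hc' (y % 16) (by norm_num; omega) (add_cancel2 R h).symm
  have low4 : ∀ y, y / 4 = 1 → encW R D e y ≠ 0 := fun y hy h => by
    have e' : y = Nat.xor (2 ^ 2) (y % 4) := by
      have : ∀ y < 8, 4 ≤ y → y = Nat.xor (2 ^ 2) (y % 4) := by decide +kernel
      exact this y (by omega) (by omega)
    rw [e', encW_xor, p 2 (by norm_num), k1 _ (by norm_num; omega)] at h
    exact hb' (y % 4) (by norm_num; omega) (add_cancel2 R h).symm
  refine ⟨e, he, fun x hx h => ?_⟩
  have h1 := ker_t x hx h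
  have h2 := ker_t _ (tl_lt x) h1
  by_cases x16 : x < 16
  · by_cases x4 : x < 4
    · by_contra x0
      have key : encW R D e (2 ^ 0) = 0 := by
        rcases cases1 x x4 x0 with e' | e' | e'
        · rwa [e'] at h
        · rwa [e'] at h1
        · rwa [e'] at h2
      rw [p 0 (by norm_num)] at key
      exact ha' 0 (by norm_num) ((encW_zero R D _).trans key.symm)
    · rcases cases4 x x16 x4 with e' | e' | e'
      · exact absurd h (low4 _ e')
      · exact absurd h1 (low4 _ e')
      · exact absurd h2 (low4 _ e')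
  · rcases cases16 x hx x16 with e' | e' | e'
    · exact absurd h (low16 _ e')
    · exact absurd h1 (low16 _ e')
    · exact absurd h2 (low16 _ e')

theorem orth_zero {d : V} (h1 : ∀ w ∈ fixW R D, R.b w d = 0) (h2 : ∀ w ∈ fixW' R D, R.b w d = 0) : d = 0 := by
  haveI := finite_V R
  let F : fixW R D × fixW' R D → V := fun p => (p.1 : V) + p.2
  have hi : Function.Injective F := fun p q e => by
    have hd : (p.1 : V) + q.1 = (p.2 : V) + q.2 := by
      refine add_cancel2 R ?_
      have : (p.1 : V) + p.2 + ((q.1 : V) + q.2) = 0 := by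
        rw [show (p.1 : V) + p.2 = F p from rfl, show (q.1 : V) + q.2 = F q from rfl, e, R.two]
      rw [← this]; abel
    have hm : (p.1 : V) + q.1 ∈ fixW R D ⊓ fixW' R D :=
      ⟨add_mem p.1.2 q.1.2, hd ▸ add_mem p.2.2 q.2.2⟩
    rw [inter_eq R D hfix, AddSubgroup.mem_bot] at hm
    exact Prod.ext (Subtype.ext (add_cancel2 R hm)) (Subtype.ext (add_cancel2 R (hd.symm.trans hm)))
  have hs : Function.Surjective F := ((Nat.bijective_iff_injective_and_card F).2 ⟨hi, by
    rw [Nat.card_prod, (halves R D hfix).1, (halves' R D hfix).1, R.card_V]⟩).2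
  refine R.nondeg d fun v => ?_
  obtain ⟨⟨w, w'⟩, rfl⟩ := hs v
  rw [R.b_comm, R.b_add, h1 w w.2, h2 w' w'.2, add_zero]

theorem exists_coord : Nonempty (Coord R D) := by
  haveI := finite_V R
  obtain ⟨e, he, hker⟩ := exists_basisW R D hfix
  obtain ⟨hc, -, hb, hq⟩ := halves R D hfix
  obtain ⟨hc', hb', hq'⟩ := halves' R D hfix
  set E := encW R D e with hEdef
  have Ex : ∀ a b, E (Nat.xor a b) = E a + E b := encW_xor R D e
  have Ei : ∀ a < 64, ∀ b < 64, E a = E b → a = b := fun a ha b hb' h =>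
    Classify.xor_eq_zero' (hker _ (Classify.xor_lt64 ha hb') (by rw [Ex, h, R.two]))
  have Es : ∀ w ∈ fixW R D, ∃ x < 64, E x = w := fun w hw => by
    let f : Fin 64 → fixW R D := fun x => ⟨E x.val, encW_mem R D he _⟩
    have hf : Function.Bijective f := (Nat.bijective_iff_injective_and_card f).2
      ⟨fun a b h => Fin.ext (Ei _ a.isLt _ b.isLt (congrArg Subtype.val h)), by rw [Nat.card_fin, hc]⟩
    obtain ⟨x, hx⟩ := hf.2 ⟨w, hw⟩
    exact ⟨x.val, x.isLt, congrArg Subtype.val hx⟩
  choose Y hY hYb using fun v : fixW' R D =>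
    Classify.exists_enc fun j => decide (R.b (E (2 ^ j.val)) v = 1)
  have two_cases : ∀ a : ZMod 2, a = 0 ∨ a = 1 := by decide
  have hYx : ∀ v : fixW' R D, ∀ x < 64, R.b (E x) v = if Classify.pr x (Y v) then 1 else 0 := fun v => by
    refine J4Type.xor_ext (· + ·) 6 (fun x => R.b (E x) v) (fun x => if Classify.pr x (Y v) then 1 else 0)
      (fun a b _ _ => by rw [Ex, R.b_add]) (fun a b ha hb => ?_) ?_ fun i hi => ?_
    · rw [Classify.pr_xor_left ha hb (hY v)]
      cases Classify.pr a (Y v) <;> cases Classify.pr b (Y v) <;> decide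
    · simp only [hEdef, encW_zero]; rw [R.b_zero_left, show Classify.pr 0 (Y v) = false by
        rw [Classify.pr, Classify.xor_zero_left]; exact Classify.qn_zero_high _ (hY v)]
      rfl
    · show R.b (E (2 ^ i)) v = if Classify.pr (2 ^ i) (Y v) then 1 else 0
      rw [hYb v ⟨i, hi⟩]
      rcases two_cases (R.b (E (2 ^ i)) (v : V)) with h | h <;> simp [h]
  have hbW' : ∀ d ∈ fixW' R D, (∀ x < 64, R.b (E x) d = 0) → d = 0 := fun d hd h =>
    orth_zero R D hfix (fun w hw => by obtain ⟨x, hx, rfl⟩ := Es w hw; exact h x hx)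
      (fun w hw => hb' w hw d hd)
  let F : fixW' R D → Fin 64 := fun v => ⟨Y v, hY v⟩
  have hF : Function.Bijective F := (Nat.bijective_iff_injective_and_card F).2 ⟨fun v w h => by
    refine Subtype.ext (add_cancel2 R (hbW' _ (add_mem v.2 w.2) fun x hx => ?_))
    rw [R.b_add_right, hYx v x hx, hYx w x hx, show Y v = Y w from congrArg Fin.val h]
    exact CharTwo.add_self_eq_zero _, by rw [Nat.card_fin, hc']⟩
  have Et : ∀ x < 64, R.ρ D.t (E x) = E (tl x) := encW_t R D hfix e
  let f : ℕ → V := fun y => if hy : y < 64 then ((Equiv.ofBijective F hF).symm ⟨y, hy⟩ : V) else 0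
  have fm : ∀ y < 64, f y ∈ fixW' R D := fun y hy => by simp only [f, dif_pos hy]; exact Subtype.prop _
  have fp : ∀ y < 64, ∀ x < 64, R.b (E x) (f y) = if Classify.pr x y then 1 else 0 := fun y hy x hx => by
    have h := hYx ((Equiv.ofBijective F hF).symm ⟨y, hy⟩) x hx
    rw [show Y _ = y from congrArg Fin.val ((Equiv.ofBijective F hF).apply_symm_apply ⟨y, hy⟩)] at h
    simpa only [f, dif_pos hy] using h
  have fx : ∀ y < 64, ∀ y' < 64, f (Nat.xor y y') = f y + f y' := fun y hy y' hy' => by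
    refine add_cancel2 R (hbW' _ (add_mem (fm _ (Classify.xor_lt64 hy hy'))
      (add_mem (fm y hy) (fm y' hy'))) fun x hx => ?_)
    rw [R.b_add_right, R.b_add_right, fp _ (Classify.xor_lt64 hy hy') x hx, fp y hy x hx, fp y' hy' x hx,
      Classify.pr_xor_right hx hy hy']
    cases Classify.pr x y <;> cases Classify.pr x y' <;> decide
  have fi : ∀ y < 64, f y = 0 → y = 0 := fun y hy h => Classify.eq_zero_of_pr hy fun x hx => by
    have := fp y hy x hx
    rw [h, R.b_zero_right] at this
    revert this; cases Classify.pr x y <;> simp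
  have ft : ∀ y < 64, R.ρ D.t (f y) = f (tl y) := fun y hy => by
    have hm : R.ρ D.t (f y) ∈ fixW' R D := ac_fixW' R D (Subgroup.subset_closure (by simp)) (fm y hy)
    refine add_cancel2 R (hbW' _ (add_mem hm (fm _ (tl_lt y))) fun x hx => ?_)
    obtain ⟨x', hx', rfl⟩ : ∃ x' < 64, tl x' = x := ⟨tl (tl x), tl_lt _, Classify.tl_cube x hx⟩
    rw [R.b_add_right, fp _ (tl_lt y) _ hx, ← Et x' hx', R.b_inv, fp y hy x' hx',
      Classify.pr_tl _ hx' _ hy]
    exact CharTwo.add_self_eq_zero _
  let dec : ℕ → V := fun n => E (n % 64) + f (n / 64)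
  have dx : ∀ a < 4096, ∀ b < 4096, dec (Nat.xor a b) = dec a + dec b := fun a ha b hb => by
    show E _ + f _ = E _ + f _ + (E _ + f _)
    have e1 : Nat.xor a b % 64 = Nat.xor (a % 64) (b % 64) := Nat.xor_mod_two_pow (n := 6)
    have e2 : Nat.xor a b / 64 = Nat.xor (a / 64) (b / 64) := by
      simpa [Nat.shiftRight_eq_div_pow] using (Nat.shiftRight_xor_distrib (a := a) (b := b) (i := 6))
    rw [e1, e2, Ex, fx _ (by omega) _ (by omega)]
    abel
  have mlow : ∀ a < 4096, dec a ∈ fixW R D ↔ a < 64 := fun a ha => by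
    have hE : E (a % 64) ∈ fixW R D := encW_mem R D he _
    constructor
    · intro h
      have h' := add_mem hE h
      rw [show E (a % 64) + dec a = f (a / 64) by
        show E _ + (E _ + f _) = _
        rw [← add_assoc, R.two, zero_add]] at h'
      have hm : f (a / 64) ∈ fixW R D ⊓ fixW' R D := ⟨h', fm _ (by omega)⟩
      rw [inter_eq R D hfix, AddSubgroup.mem_bot] at hm
      have := fi _ (by omega) hm
      omega
    · intro h
      show E _ + f _ ∈ _
      rw [Nat.div_eq_of_lt h, show f 0 = 0 by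
        have := fx 0 (by norm_num) 0 (by norm_num)
        rwa [Classify.xor_self', left_eq_add] at this, add_zero]
      exact hE
  have mhigh : ∀ a < 4096, dec a ∈ fixW' R D ↔ a % 64 = 0 := fun a ha => by
    constructor
    · intro h
      have h' := add_mem h (fm (a / 64) (by omega))
      rw [show dec a + f (a / 64) = E (a % 64) by
        show E _ + f _ + f _ = _
        rw [add_assoc, R.two, add_zero]] at h'
      have hm : E (a % 64) ∈ fixW R D ⊓ fixW' R D := ⟨encW_mem R D he _, h'⟩
      rw [inter_eq R D hfix, AddSubgroup.mem_bot] at hm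
      exact hker _ (Nat.mod_lt _ (by norm_num)) hm
    · intro h
      show E _ + f _ ∈ _
      rw [h, hEdef, encW_zero, zero_add]
      exact fm _ (by omega)
  have di : ∀ a < 4096, ∀ b < 4096, dec a = dec b → a = b := fun a ha b hb h => by
    have hl := Classify.xor_lt4096 ha hb
    have z : dec (Nat.xor a b) = 0 := by rw [dx a ha b hb, h, R.two]
    have h1 := (mlow _ hl).1 (z ▸ zero_mem _)
    have h2 := (mhigh _ hl).1 (z ▸ zero_mem _)
    exact Classify.xor_eq_zero' (by omega)
  refine ⟨{ dec := dec, dec_xor := dx, dec_inj := di, low := mlow, high := mhigh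
            dec_surj := fun v => ?_, dec_q := fun a ha => ?_, dec_t := fun a ha => ?_ }⟩
  · let F' : Fin 4096 → V := fun a => dec a.val
    have hb4 : Function.Bijective F' := (Nat.bijective_iff_injective_and_card F').2
      ⟨fun a b h => Fin.ext (di _ a.isLt _ b.isLt h), by rw [Nat.card_fin, R.card_V]⟩
    obtain ⟨a, ha⟩ := hb4.2 v
    exact ⟨a.val, a.isLt, ha⟩
  · show R.q (E _ + f _) = _
    rw [R.q_add, hq _ (encW_mem R D he _), hq' _ (fm _ (by omega)), add_zero, zero_add,
      fp _ (by omega) _ (Nat.mod_lt _ (by norm_num)), Classify.pr, ← Classify.split_code a ha]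
  · show R.ρ D.t (E _ + f _) = E _ + f _
    have hsp := Classify.colsT_split (x := a % 64) (y := a / 64) (Nat.mod_lt _ (by norm_num)) (by omega)
    rw [← Classify.split_code a ha] at hsp
    obtain ⟨e1, e2⟩ := Classify.split_mod _ (tl_lt (a % 64)) _ (tl_lt (a / 64))
    rw [hsp, e1, e2, map_add, Et _ (Nat.mod_lt _ (by norm_num)), ft _ (by omega)]

end Fpf

theorem high_iff {P Q : ℕ → ℕ} (hP : Sym P) (hQ : Sym Q) (hPQ : ∀ v < 4096, P (Q v) = v ∧ Q (P v) = v)
    {a : ℕ} (ha : a < 4096) : P a % 64 = 0 ↔ a % 64 = 0 := by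
  constructor <;> intro h
  · have hl := hP.lin.1 a ha
    have := hQ.high (P a / 64) (by omega)
    rwa [show 64 * (P a / 64) = P a by omega, (hPQ a ha).2] at this
  · have := hP.high (a / 64) (by omega)
    rwa [show 64 * (a / 64) = a by omega] at this

namespace Coord

variable {R D} (C : Coord R D)

/-- The code of a vector. -/
noncomputable def code (v : V) : ℕ := Classical.choose (C.dec_surj v)

theorem code_lt (v : V) : C.code v < 4096 := (Classical.choose_spec (C.dec_surj v)).1

theorem dec_code (v : V) : C.dec (C.code v) = v := (Classical.choose_spec (C.dec_surj v)).2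

theorem code_dec {n : ℕ} (hn : n < 4096) : C.code (C.dec n) = n :=
  C.dec_inj _ (C.code_lt _) _ hn (C.dec_code _)

theorem code_add (v w : V) : C.code (v + w) = Nat.xor (C.code v) (C.code w) := by
  conv_lhs => rw [← C.dec_code v, ← C.dec_code w, ← C.dec_xor _ (C.code_lt v) _ (C.code_lt w)]
  exact C.code_dec (Classify.xor_lt4096 (C.code_lt v) (C.code_lt w))

theorem code_q (v : V) : R.q v = if qn (C.code v) then 1 else 0 := by
  conv_lhs => rw [← C.dec_code v]
  exact C.dec_q _ (C.code_lt v)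

/-- The map of codes of an element. -/
noncomputable def act (h : H) (n : ℕ) : ℕ := C.code (R.ρ h (C.dec n))

theorem act_lt (h : H) (n : ℕ) : C.act h n < 4096 := C.code_lt _

theorem act_code (h : H) (v : V) : C.code (R.ρ h v) = C.act h (C.code v) := by
  rw [act, C.dec_code]

theorem act_mul (h k : H) (n : ℕ) : C.act (h * k) n = C.act h (C.act k n) := by
  rw [act, R.mul_apply, C.act_code]; rfl

theorem act_one {n : ℕ} (hn : n < 4096) : C.act 1 n = n := by rw [act, R.one_apply, C.code_dec hn]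

theorem act_t {n : ℕ} (hn : n < 4096) : C.act D.t n = app colsT n := by
  rw [act, C.dec_t n hn, C.code_dec (Classify.app_lt (k := 12) (by decide) n)]

theorem act_pow (h : H) (k : ℕ) {n : ℕ} (hn : n < 4096) : C.act (h ^ k) n = (C.act h)^[k] n := by
  induction k generalizing n with
  | zero => rw [pow_zero, C.act_one hn]; rfl
  | succ k ih => rw [pow_succ, C.act_mul, ih (C.act_lt h n)]; rfl

theorem act_lin (h : H) : IsLin 4096 (C.act h) :=
  ⟨fun n _ => C.act_lt h n, fun a ha b hb => by rw [act, C.dec_xor a ha b hb, map_add, C.code_add]; rfl⟩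

theorem act_qn (h : H) {n : ℕ} (hn : n < 4096) : qn (C.act h n) = qn n := by
  have e := (C.code_q (R.ρ h (C.dec n))).symm.trans ((R.q_inv h _).trans (C.dec_q n hn))
  change (if qn (C.act h n) then (1 : ZMod 2) else 0) = _ at e
  revert e
  cases qn (C.act h n) <;> cases qn n <;> simp

theorem act_comm_t {h : H} (hh : h * D.t = D.t * h) {n : ℕ} (hn : n < 4096) :
    C.act h (app colsT n) = app colsT (C.act h n) := by
  rw [← C.act_t hn, ← C.act_mul, hh, C.act_mul, C.act_t (C.act_lt h n)]

theorem act_low {h : H} (hh : ∀ v ∈ fixW R D, R.ρ h v ∈ fixW R D) {x : ℕ} (hx : x < 64) : C.act h x < 64 := by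
  refine (C.low _ (C.act_lt h x)).1 ?_
  rw [act, C.dec_code]
  exact hh _ ((C.low x (by omega)).2 hx)

theorem act_high {h : H} (hh : ∀ v ∈ fixW' R D, R.ρ h v ∈ fixW' R D) {y : ℕ} (hy : y < 64) :
    C.act h (64 * y) % 64 = 0 := by
  refine (C.high _ (C.act_lt h _)).1 ?_
  rw [act, C.dec_code]
  exact hh _ ((C.high _ (by omega)).2 (by omega))

theorem act_evW (a c : H) (w : List Bool) {n : ℕ} (hn : n < 4096) :
    C.act (evW a c w) n = Classify.evL (C.act a) (C.act c) w n := by
  induction w with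
  | nil => exact C.act_one hn
  | cons b w ih =>
    have : evW a c (b :: w) = (if b then c else a) * evW a c w := by simp [evW]
    rw [this, C.act_mul, ih]
    cases b <;> rfl

theorem act_evR (r : Fin 4 → H) (m : ℕ) {n : ℕ} (hn : n < 4096) :
    C.act (evR r m) n = Classify.evRL (fun i => C.act (r i)) m n := by
  have hite : ∀ (p : Prop) [Decidable p] (h : H) (k : ℕ), k < 4096 →
      C.act (if p then h else 1) k = (if p then C.act h else id) k := fun p _ h k hk => by
    split
    · rfl
    · exact C.act_one hk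
  simp only [evR, List.ofFn_succ, List.ofFn_zero, List.prod_cons, List.prod_nil, mul_one]
  rw [C.act_mul, C.act_mul, C.act_mul, hite _ _ _ (C.act_lt _ _), hite _ _ _ (C.act_lt _ _),
    hite _ _ _ (C.act_lt _ _), hite _ _ n hn]
  rfl

/-- The coordinates changed by a symmetry. -/
theorem exists_map {Q : ℕ → ℕ} (hQ : Sym Q) : ∃ C' : Coord R D,
    ∀ h, ∀ n < 4096, C'.act h (Q n) = Q (C.act h n) := by
  obtain ⟨P, hP, hPQ⟩ := hQ.exists_inv
  let C' : Coord R D :=
          { dec := fun n => C.dec (P n)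
            dec_xor := fun a ha b hb => by rw [hP.lin.2 a ha b hb, C.dec_xor _ (hP.lin.1 a ha) _ (hP.lin.1 b hb)]
            dec_inj := fun a ha b hb h => hP.inj ha hb (C.dec_inj _ (hP.lin.1 a ha) _ (hP.lin.1 b hb) h)
            dec_surj := fun v => ⟨Q (C.code v), hQ.lin.1 _ (C.code_lt v), by
              rw [(hPQ _ (C.code_lt v)).1, C.dec_code]⟩
            dec_q := fun a ha => by rw [C.dec_q _ (hP.lin.1 a ha), hP.qn_inv a ha]
            dec_t := fun a ha => by rw [C.dec_t _ (hP.lin.1 a ha), hP.comm_T a ha]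
            low := fun a ha => by rw [C.low _ (hP.lin.1 a ha), ← Classify.low_iff hP ha]
            high := fun a ha => (C.high _ (hP.lin.1 a ha)).trans (high_iff hP hQ hPQ ha) }
  refine ⟨C', fun h n hn => ?_⟩
  refine hP.inj (C'.act_lt h _) (hQ.lin.1 _ (C.act_lt h n)) ?_
  refine C.dec_inj _ (hP.lin.1 _ (C'.act_lt h _)) _ (hP.lin.1 _ (hQ.lin.1 _ (C.act_lt h n))) ?_
  rw [(hPQ _ (C.act_lt h n)).1]
  refine (C'.dec_code (R.ρ h (C'.dec (Q n)))).trans ?_
  show R.ρ h (C.dec (P (Q n))) = C.dec (C.act h n)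
  rw [(hPQ n hn).1]; exact (C.dec_code _).symm

end Coord

end CfsgLib.J4Type.ModelExists
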