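import Mathlib

/-!
Two involutions: a commutator of two words in them that commutes with the first is an involution or
trivial.
-/

set_option autoImplicit false

namespace CfsgLib.J4Type.ModelExists

variable {G : Type*} [Group G] (a c : G)

/-- Membership in the coset of the cyclic part with the given parity. -/
def InDih (b : Bool) (x : G) : Prop := ∃ k : ℤ, x = if b then (a * c) ^ k * a else (a * c) ^ k

variable {a c} (ha : a * a = 1) (hc : c * c = 1)

include ha hc

theorem flip_zpow (k : ℤ) : a * (a * c) ^ k = (a * c) ^ (-k) * a := by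
  have h : MulAut.conj a ((a * c) ^ k) = (MulAut.conj a (a * c)) ^ k := map_zpow _ _ _
  have ha' : a⁻¹ = a := inv_eq_of_mul_eq_one_right ha
  have hc' : c⁻¹ = c := inv_eq_of_mul_eq_one_right hc
  have e : MulAut.conj a (a * c) = (a * c)⁻¹ := by
    rw [MulAut.conj_apply, mul_inv_rev, ha', hc', ← mul_assoc, ha, one_mul]
  rw [e, MulAut.conj_apply, inv_zpow', mul_inv_eq_iff_eq_mul] at h
  exact h

theorem InDih.mul {b b' : Bool} {x y : G} (hx : InDih a c b x) (hy : InDih a c b' y) :
    InDih a c (b.xor b') (x * y) := by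
  obtain ⟨k, rfl⟩ := hx
  obtain ⟨l, rfl⟩ := hy
  cases b <;> cases b'
  · exact ⟨k + l, by simp [zpow_add]⟩
  · exact ⟨k + l, by simp [zpow_add, mul_assoc]⟩
  · refine ⟨k + -l, ?_⟩
    simp only [Bool.xor_false, if_true, Bool.false_eq_true, if_false]
    rw [mul_assoc, flip_zpow ha hc, ← mul_assoc, zpow_add]
  · refine ⟨k + -l, ?_⟩
    simp only [Bool.xor_self, if_true, Bool.false_eq_true, if_false]
    rw [show (a * c) ^ k * a * ((a * c) ^ l * a) = (a * c) ^ k * (a * (a * c) ^ l) * a by group,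
      flip_zpow ha hc, ← mul_assoc, mul_assoc _ a a, ha, mul_one, zpow_add]

theorem InDih.inv {b : Bool} {x : G} (hx : InDih a c b x) : InDih a c b x⁻¹ := by
  obtain ⟨k, rfl⟩ := hx
  cases b
  · exact ⟨-k, by simp [zpow_neg]⟩
  · refine ⟨k, ?_⟩
    simp only [if_true]
    rw [mul_inv_rev, ← zpow_neg, inv_eq_of_mul_eq_one_right ha]
    rw [flip_zpow ha hc, neg_neg]

theorem inDih_word : ∀ w : List Bool, ∃ b, InDih a c b (w.map fun s => if s then c else a).prod
  | [] => ⟨false, 0, by simp⟩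
  | s :: w => by
    obtain ⟨b, hb⟩ := inDih_word w
    rw [List.map_cons, List.prod_cons]
    cases s
    · exact ⟨_, (show InDih a c true a from ⟨0, by simp⟩).mul ha hc hb⟩
    · refine ⟨_, (show InDih a c true c from ⟨-1, ?_⟩).mul ha hc hb⟩
      simp only [if_true]
      rw [zpow_neg, zpow_one, mul_inv_rev, inv_eq_of_mul_eq_one_right ha, inv_eq_of_mul_eq_one_right hc,
        mul_assoc, ha, mul_one]

theorem comm_sq (w v : List Bool) {x y : G} (hx : x = (w.map fun s => if s then c else a).prod)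
    (hy : y = (v.map fun s => if s then c else a).prod)
    (hcomm : a * (x * y * x⁻¹ * y⁻¹) = x * y * x⁻¹ * y⁻¹ * a) :
    (x * y * x⁻¹ * y⁻¹) * (x * y * x⁻¹ * y⁻¹) = 1 := by
  obtain ⟨b, hb⟩ := inDih_word ha hc w
  obtain ⟨b', hb'⟩ := inDih_word ha hc v
  rw [← hx] at hb
  rw [← hy] at hb'
  obtain ⟨k, hk⟩ := ((hb.mul ha hc hb').mul ha hc (hb.inv ha hc)).mul ha hc (hb'.inv ha hc)
  have hb0 : (((b.xor b').xor b).xor b') = false := by cases b <;> cases b' <;> rfl
  rw [hb0, if_neg Bool.false_ne_true] at hk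
  rw [hk] at hcomm ⊢
  rw [flip_zpow ha hc] at hcomm
  have h := mul_right_cancel hcomm
  calc (a * c) ^ k * (a * c) ^ k = (a * c) ^ (-k) * (a * c) ^ k := by rw [h]
    _ = 1 := by rw [← zpow_add, neg_add_cancel, zpow_zero]

end CfsgLib.J4Type.ModelExists
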