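import Cfsg.Agent.Lib.J4Type.Classify

/-!
Maps of the codes that commute with the fixed block diagonal generators up to the scalar: the finite
checks for the remaining two generators.
-/

set_option autoImplicit false
set_option maxRecDepth 20000

namespace CfsgLib.J4Type.Classify

/-- The columns of the inverse of `g`. -/
def colsGInv : List ℕ := [3712, 1984, 3840, 1280, 3264, 1088, 63, 21, 25, 46, 22, 43]

theorem lin_colsT : IsLin 4096 (app colsT) := isLin_app (k := 12) (by decide)

theorem lin_id (n : ℕ) : IsLin n id := ⟨fun _ h => h, fun _ _ _ _ => rfl⟩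

theorem lin_evL {f g : ℕ → ℕ} (hf : IsLin 4096 f) (hg : IsLin 4096 g) : ∀ w, IsLin 4096 (evL f g w)
  | [] => lin_id _
  | b :: w => by
    cases b
    · exact hf.comp (lin_evL hf hg w)
    · exact hg.comp (lin_evL hf hg w)

theorem T_lt (k : ℕ) {v : ℕ} (hv : v < 4096) : (app colsT)^[k] v < 4096 := by
  induction k generalizing v with
  | zero => exact hv
  | succ k ih => exact ih (lin_colsT.1 v hv)

theorem T_three : ∀ v < 4096, app colsT (app colsT (app colsT v)) = v :=
  ext4096 (lin_colsT.comp (lin_colsT.comp lin_colsT)) (lin_id _) (by decide +kernel)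

theorem T_mod (k : ℕ) {v : ℕ} (hv : v < 4096) : (app colsT)^[k] v = (app colsT)^[k % 3] v := by
  induction k using Nat.strong_induction_on generalizing v with
  | _ k ih =>
    by_cases h : k < 3
    · rw [Nat.mod_eq_of_lt h]
    · obtain ⟨j, rfl⟩ : ∃ j, k = j + 3 := ⟨k - 3, by omega⟩
      rw [Function.iterate_add_apply, Nat.add_mod_right]
      show (app colsT)^[j] (app colsT (app colsT (app colsT v))) = _
      rw [T_three v hv]
      exact ih j (by omega) hv

theorem T_iter_low (k : ℕ) {x : ℕ} (hx : x < 64) : (app colsT)^[k] x = tl^[k] x := by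
  induction k generalizing x with
  | zero => rfl
  | succ k ih =>
    show (app colsT)^[k] (app colsT x) = tl^[k] (tl x)
    rw [colsT_low x hx]; exact ih (tl_lt x)

theorem T_fixed : ∀ x < 64, ∀ k < 3, (app colsT)^[k] x = x → x = 0 ∨ k = 0 := by decide +kernel

theorem comm_T_iter {f : ℕ → ℕ} (hf : ∀ v < 4096, f (app colsT v) = app colsT (f v)) (k : ℕ) {v : ℕ}
    (hv : v < 4096) : f ((app colsT)^[k] v) = (app colsT)^[k] (f v) := by
  induction k generalizing v with
  | zero => rfl
  | succ k ih =>
    show f ((app colsT)^[k] (app colsT v)) = (app colsT)^[k] (app colsT (f v))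
    rw [ih (lin_colsT.1 v hv), hf v hv]

theorem sym_colsT : Sym (app colsT) where
  lin := lin_colsT
  qn_inv v hv := by
    rw [split_code v hv]
    exact (by decide +kernel : ∀ x < 64, ∀ y < 64, qn (app colsT (Nat.xor x (64 * y))) = qn (Nat.xor x (64 * y)))
      _ (Nat.mod_lt _ (by norm_num)) _ (by omega)
  comm_T _ _ := rfl
  low := by decide +kernel
  high := by decide +kernel

theorem sym_T_iter : ∀ k : ℕ, Sym (app colsT)^[k]
  | 0 => ⟨lin_id _, fun _ _ => rfl, fun _ _ => rfl, fun _ h => h, fun y _ => by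
      show 64 * y % 64 = 0
      omega⟩
  | k + 1 => by
    rw [Function.iterate_succ]
    exact (sym_T_iter k).comp sym_colsT

theorem lin_g : IsLin 4096 (app colsG) ∧ IsLin 4096 (app colsGInv) ∧ IsLin 4096 (app colsU) :=
  ⟨isLin_app (k := 12) (by decide), isLin_app (k := 12) (by decide), isLin_app (k := 12) (by decide)⟩

theorem g_inv : (∀ v < 4096, app colsG (app colsGInv v) = v) ∧ ∀ v < 4096, app colsGInv (app colsG v) = v :=
  ⟨ext4096 (lin_g.1.comp lin_g.2.1) (lin_id _) (by decide +kernel),
    ext4096 (lin_g.2.1.comp lin_g.1) (lin_id _) (by decide +kernel)⟩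

theorem g_T : (∀ v < 4096, app colsG (app colsT v) = app colsT (app colsG v)) ∧
    ∀ v < 4096, app colsGInv (app colsT v) = app colsT (app colsGInv v) :=
  ⟨ext4096 (lin_g.1.comp lin_colsT) (lin_colsT.comp lin_g.1) (by decide +kernel),
    ext4096 (lin_g.2.1.comp lin_colsT) (lin_colsT.comp lin_g.2.1) (by decide +kernel)⟩

theorem g_qn (v : ℕ) (hv : v < 4096) : qn (app colsGInv v) = qn v := by
  rw [split_code v hv]
  exact (by decide +kernel : ∀ x < 64, ∀ y < 64, qn (app colsGInv (Nat.xor x (64 * y))) = qn (Nat.xor x (64 * y)))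
    _ (Nat.mod_lt _ (by norm_num)) _ (by omega)

theorem g_halves : ∀ x < 64, app colsGInv x % 64 = 0 ∧ app colsGInv (64 * x) < 64 := by decide +kernel

theorem lin_colsAC : IsLin 4096 (app colsA) ∧ IsLin 4096 (app colsC) := ⟨sym_colsA.lin, sym_colsC.lin⟩

theorem g_a : ∀ v < 4096, evL (app colsA) (app colsC) wGA (app colsG v) = app colsG (app colsA v) :=
  ext4096 ((lin_evL lin_colsAC.1 lin_colsAC.2 _).comp lin_g.1) (lin_g.1.comp lin_colsAC.1) (by decide +kernel)

theorem g_c : ∀ v < 4096, evL (app colsA) (app colsC) wGC (app colsG v) = app colsG (app colsC v) :=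
  ext4096 ((lin_evL lin_colsAC.1 lin_colsAC.2 _).comp lin_g.1) (lin_g.1.comp lin_colsAC.2) (by decide +kernel)

theorem g_g : ∀ v < 4096, app colsG (app colsG v) = evL (app colsA) (app colsC) wGG v :=
  ext4096 (lin_g.1.comp lin_g.1) (lin_evL lin_colsAC.1 lin_colsAC.2 _) (by decide +kernel)

theorem u_u : ∀ v < 4096, app colsU (app colsU v) = v :=
  ext4096 (lin_g.2.2.comp lin_g.2.2) (lin_id _) (by decide +kernel)

theorem u_T : ∀ v < 4096, app colsU (app colsT v) = app colsT (app colsT (app colsU v)) :=
  ext4096 (lin_g.2.2.comp lin_colsT) (lin_colsT.comp (lin_colsT.comp lin_g.2.2)) (by decide +kernel)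

theorem u_a : ∀ v < 4096, app colsA (app colsU v) = app colsU (app colsA v) :=
  ext4096 (lin_colsAC.1.comp lin_g.2.2) (lin_g.2.2.comp lin_colsAC.1) (by decide +kernel)

theorem u_c : ∀ v < 4096, evL (app colsA) (app colsC) wUC (app colsU v) = app colsT (app colsU (app colsC v)) :=
  ext4096 ((lin_evL lin_colsAC.1 lin_colsAC.2 _).comp lin_g.2.2) (lin_colsT.comp (lin_g.2.2.comp lin_colsAC.2))
    (by decide +kernel)

theorem u_qn (v : ℕ) (hv : v < 4096) : qn (app colsU v) = qn v := by
  rw [split_code v hv]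
  exact (by decide +kernel : ∀ x < 64, ∀ y < 64, qn (app colsU (Nat.xor x (64 * y))) = qn (Nat.xor x (64 * y)))
    _ (Nat.mod_lt _ (by norm_num)) _ (by omega)

theorem u_low : ∀ x < 64, app colsU x < 64 := by decide +kernel

theorem u_T_iter (k : ℕ) {v : ℕ} (hv : v < 4096) :
    app colsU ((app colsT)^[k] v) = (app colsT)^[2 * k] (app colsU v) := by
  induction k generalizing v with
  | zero => rfl
  | succ k ih =>
    show app colsU ((app colsT)^[k] (app colsT v)) = _
    rw [ih (lin_colsT.1 v hv), u_T v hv, show 2 * (k + 1) = 2 * k + 2 by ring, Function.iterate_add_apply]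
    rfl

/-- The columns of the candidate on the first half. -/
def lowCand (m : ℕ) : List ℕ := cols3 (app colsA (tl m)) (Nat.xor (app colsC m) m) m

theorem low_check : ((List.range 64).all fun m =>
    !(bits6.all fun e => app (lowCand m) (app colsA e) == app colsA (app (lowCand m) e) &&
      app (lowCand m) (app colsC e) == app colsC (app (lowCand m) e)) ||
    (List.range 4).any fun k => bits6.all fun e => app (lowCand m) e == sm k e) = true := by
  decide +kernel

/-- The columns of the candidate from the second half to the first. -/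
def homCand (m : ℕ) : List ℕ :=
  cols3 m (Nat.xor (Nat.xor (app colsC m) m) (tl (tl (app colsA m)))) (tl (tl (app colsA m)))

theorem hom_check : ((List.range 64).all fun m => m == 0 ||
    !(bits6.all fun e => app (homCand m) (app colsA (64 * e) / 64) == app colsA (app (homCand m) e) &&
      app (homCand m) (app colsC (64 * e) / 64) == app colsC (app (homCand m) e))) = true := by
  decide +kernel

theorem bits6_lt' {e : ℕ} (he : e ∈ bits6) : e < 64 := bits6_lt e he

/-- A map of the first half commuting with the two generators is a scalar. -/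
theorem semi_scalar {f : ℕ → ℕ} (hf : Semi f) (hA : ∀ x < 64, f (app colsA x) = app colsA (f x))
    (hC : ∀ x < 64, f (app colsC x) = app colsC (f x)) : ∃ k < 4, ∀ x < 64, f x = sm k x := by
  have lm := hf.lin.1 16 (by norm_num)
  have la := sym_colsA.low
  have lc := sym_colsC.low
  have e1 : f 1 = app colsA (tl (f 16)) := by
    rw [← hf.comm 16 (by norm_num), ← hA _ (tl_lt _), show app colsA (tl 16) = 1 by decide]
  have e4 : f 4 = Nat.xor (app colsC (f 16)) (f 16) := by
    rw [← hC 16 (by norm_num), show app colsC 16 = Nat.xor 4 16 by decide,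
      hf.lin.2 4 (by norm_num) 16 (by norm_num), xor_cancel]
  have hF : ∀ x < 64, f x = app (lowCand (f 16)) x := by
    have := semi_eq_cols3 hf
    rwa [e1, e4] at this
  have hc := low_check
  simp only [List.all_eq_true, List.mem_range, List.any_eq_true, Bool.or_eq_true, Bool.not_eq_true',
    beq_iff_eq] at hc
  rcases hc (f 16) lm with hc | ⟨k, hk, hc⟩
  · exfalso
    rw [← Bool.not_eq_true] at hc
    apply hc
    simp only [List.all_eq_true, Bool.and_eq_true, beq_iff_eq]
    intro e he
    have he := bits6_lt' he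
    rw [← hF _ (la e he), ← hF _ (lc e he), ← hF e he]
    exact ⟨hA e he, hC e he⟩
  · refine ⟨k, hk, ext64 hf.lin ⟨fun x hx => sm_lt k hx, fun x _ y _ => ?_⟩ fun e he => ?_⟩
    · unfold sm
      split_ifs <;> first | rfl | simp only [tl_xor]
    · rw [hF e (bits6_lt' he), hc e he]

/-- A map from the second half to the first commuting with the two generators is zero. -/
theorem semi_hom {f : ℕ → ℕ} (hf : Semi f) (hA : ∀ y < 64, f (app colsA (64 * y) / 64) = app colsA (f y))
    (hC : ∀ y < 64, f (app colsC (64 * y) / 64) = app colsC (f y)) : ∀ y < 64, f y = 0 := by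
  have lm := hf.lin.1 1 (by norm_num)
  have la : ∀ y < 64, app colsA (64 * y) / 64 < 64 := fun y hy => by
    have := sym_colsA.lin.1 (64 * y) (by omega)
    omega
  have lc : ∀ y < 64, app colsC (64 * y) / 64 < 64 := fun y hy => by
    have := sym_colsC.lin.1 (64 * y) (by omega)
    omega
  have e16 : f 16 = tl (tl (app colsA (f 1))) := by
    rw [← hA 1 (by norm_num), show app colsA (64 * 1) / 64 = tl 16 by decide, hf.comm 16 (by norm_num),
      tl_cube _ (hf.lin.1 16 (by norm_num))]
  have e4 : f 4 = Nat.xor (Nat.xor (app colsC (f 1)) (f 1)) (tl (tl (app colsA (f 1)))) := by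
    rw [← hC 1 (by norm_num), show app colsC (64 * 1) / 64 = Nat.xor (Nat.xor 4 1) 16 by decide,
      hf.lin.2 _ (by decide) 16 (by norm_num), hf.lin.2 4 (by norm_num) 1 (by norm_num), ← e16]
    show f 4 = ((f 4 ^^^ f 1 ^^^ f 16) ^^^ f 1) ^^^ f 16
    rw [Nat.xor_right_comm (f 4 ^^^ f 1) (f 16), show (f 4 ^^^ f 1) ^^^ f 1 = f 4 from xor_cancel _ _]
    exact (xor_cancel (f 4) (f 16)).symm
  have hF : ∀ x < 64, f x = app (homCand (f 1)) x := by
    have := semi_eq_cols3 hf
    rwa [e16, e4] at this
  have hc := hom_check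
  simp only [List.all_eq_true, List.mem_range, Bool.or_eq_true, Bool.not_eq_true', beq_iff_eq] at hc
  rcases hc (f 1) lm with h0 | hc
  · intro y hy
    rw [hF y hy, h0]
    revert y
    decide +kernel
  · exfalso
    rw [← Bool.not_eq_true] at hc
    apply hc
    simp only [List.all_eq_true, Bool.and_eq_true, beq_iff_eq]
    intro e he
    have he := bits6_lt' he
    rw [← hF _ (la e he), ← hF _ (lc e he), ← hF e he]
    exact ⟨hA e he, hC e he⟩

/-- A map preserving the first half that commutes with the two generators up to powers of the scalar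
commutes with them, and is a power of the scalar on the first half. -/
theorem exists_scalar {M : ℕ → ℕ} (hlin : IsLin 4096 M) (hinj : ∀ v < 4096, M v = 0 → v = 0)
    (hlow : ∀ x < 64, M x < 64) (hT : ∀ v < 4096, M (app colsT v) = app colsT (M v))
    (hA : ∃ j, ∀ v < 4096, M (app colsA v) = (app colsT)^[j] (app colsA (M v)))
    (hC : ∃ j, ∀ v < 4096, M (app colsC v) = (app colsT)^[j] (app colsC (M v))) :
    (∀ v < 4096, M (app colsA v) = app colsA (M v)) ∧ (∀ v < 4096, M (app colsC v) = app colsC (M v)) ∧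
      ∃ i < 3, ∀ x < 64, M x = (app colsT)^[i] x := by
  have aa : ∀ v < 4096, app colsA (app colsA v) = v :=
    ext4096 (lin_colsAC.1.comp lin_colsAC.1) (lin_id _) (by decide +kernel)
  have c4 : ∀ v < 4096, app colsC (app colsC (app colsC (app colsC v))) = v :=
    ext4096 (lin_colsAC.2.comp (lin_colsAC.2.comp (lin_colsAC.2.comp lin_colsAC.2))) (lin_id _) (by decide +kernel)
  have l1 := hlin.1 1 (by norm_num)
  have n1 : M 1 ≠ 0 := fun e => absurd (hinj 1 (by norm_num) e) (by norm_num)
  have nA : ∀ v < 4096, M (app colsA v) = app colsA (M v) := by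
    obtain ⟨j, hj⟩ := hA
    have h := hj (app colsA 1) (sym_colsA.lin.1 1 (by norm_num))
    rw [aa 1 (by norm_num), hj 1 (by norm_num), comm_T_iter sym_colsA.comm_T j (sym_colsA.lin.1 _ l1),
      aa _ l1, ← Function.iterate_add_apply, T_mod _ l1] at h
    have h0 := (T_fixed _ (hlow 1 (by norm_num)) _ (Nat.mod_lt _ (by norm_num)) h.symm).resolve_left n1
    intro v hv
    rw [hj v hv, T_mod _ (sym_colsA.lin.1 _ (hlin.1 v hv)), show j % 3 = 0 by omega]
    rfl
  have nC : ∀ v < 4096, M (app colsC v) = app colsC (M v) := by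
    obtain ⟨j, hj⟩ := hC
    have c1 := sym_colsC.lin.1
    have l := hlin.1
    have it : ∀ k v, v < 4096 → app colsC ((app colsT)^[k] v) = (app colsT)^[k] (app colsC v) := fun k v hv =>
      comm_T_iter sym_colsC.comm_T k hv
    have h := c4 1 (by norm_num)
    apply_fun M at h
    rw [hj _ (c1 _ (c1 _ (c1 1 (by norm_num)))), hj _ (c1 _ (c1 1 (by norm_num))), hj _ (c1 1 (by norm_num)),
      hj 1 (by norm_num)] at h
    simp only [it _ _ (T_lt _ (c1 _ (T_lt _ (c1 _ (T_lt _ (c1 _ l1)))))), it _ _ (T_lt _ (c1 _ (T_lt _ (c1 _ l1)))),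
      it _ _ (T_lt _ (c1 _ l1)), it _ _ (c1 _ (c1 _ (c1 _ l1))), it _ _ (c1 _ (c1 _ l1)), it _ _ (c1 _ l1),
      c4 _ l1, ← Function.iterate_add_apply] at h
    rw [T_mod _ l1] at h
    have h0 := (T_fixed _ (hlow 1 (by norm_num)) _ (Nat.mod_lt _ (by norm_num)) h).resolve_left n1
    intro v hv
    rw [hj v hv, T_mod _ (sym_colsC.lin.1 _ (hlin.1 v hv)), show j % 3 = 0 by omega]
    rfl
  refine ⟨nA, nC, ?_⟩
  have hS : Semi M := ⟨⟨hlow, fun x hx y hy => hlin.2 x (by omega) y (by omega)⟩, fun x hx => by
    rw [← colsT_low x hx, hT x (by omega), colsT_low _ (hlow x hx)]⟩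
  obtain ⟨k, hk, hf⟩ := semi_scalar hS (fun x hx => nA x (by omega)) (fun x hx => nC x (by omega))
  interval_cases k
  · exact absurd ((hf 1 (by norm_num)).trans (by simp [sm])) n1
  · exact ⟨0, by norm_num, fun x hx => by rw [hf x hx]; simp [sm]⟩
  · exact ⟨1, by norm_num, fun x hx => by rw [hf x hx, T_iter_low _ hx]; simp [sm]⟩
  · exact ⟨2, by norm_num, fun x hx => by rw [hf x hx, T_iter_low _ hx]; simp [sm]⟩

end CfsgLib.J4Type.Classify
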