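import Cfsg.Agent.Lib.J4Type.Model.Coord
import Cfsg.Agent.Lib.J4Type.Model.Twists

/-!
Every fixed point free action of a group with the generators is the fixed model, up to replacing the
outer involution by its product with a power of `t`.
-/

set_option autoImplicit false
set_option linter.unusedSectionVars false

namespace CfsgLib.J4Type.ModelExists

open CfsgLib.FischerTwoFour (QRep)
open Classify (IsLin Sym tl colsGInv)
open scoped commutatorElement

variable {H V : Type*} [Group H] [AddCommGroup V] {R : QRep H V} {D : Gens H}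

/-- The outer involution multiplied by a power of `t`. -/
theorem exists_twist (D : Gens H) (k : ℕ) : ∃ D' : Gens H,
    D'.a = D.a ∧ D'.c = D.c ∧ D'.g = D.g ∧ D'.r = D.r ∧ D'.t = D.t ∧ D'.u = D.u * D.t ^ k := by
  have hk : ∀ x, x * D.t = D.t * x → (D.u * D.t ^ k) * x * (D.u * D.t ^ k)⁻¹ = D.u * x * D.u⁻¹ := fun x hx => by
    have h1 : D.t ^ k * x = x * D.t ^ k := ((Commute.pow_right (hx : Commute x D.t) k)).eq.symm
    rw [mul_inv_rev, show D.u * D.t ^ k * x * ((D.t ^ k)⁻¹ * D.u⁻¹) = D.u * (D.t ^ k * x) * (D.t ^ k)⁻¹ * D.u⁻¹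
      by group, h1]
    group
  refine ⟨{ D with
    u := D.u * D.t ^ k
    top := ?_
    u_t := by rw [hk _ rfl, D.u_t]
    u_sq := ?_
    u_a := by rw [hk _ D.t_a]; exact D.u_a
    u_c := by rw [hk _ D.t_c]; exact D.u_c
    u_r := fun i => by rw [hk _ (D.t_r i)]; exact D.u_r i }, rfl, rfl, rfl, rfl, rfl, rfl⟩
  · set S := Subgroup.closure ({D.a, D.c, D.g, D.u * D.t ^ k} ∪ Set.range D.r : Set H)
    have ha : D.a ∈ S := Subgroup.subset_closure (by simp)
    have hc : D.c ∈ S := Subgroup.subset_closure (by simp)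
    have hu : D.u * D.t ^ k ∈ S := Subgroup.subset_closure (by simp)
    have hw : ∀ w, evW D.a D.c w ∈ S := fun w => Subgroup.list_prod_mem _ fun x hx => by
      obtain ⟨b, -, rfl⟩ := List.mem_map.1 hx
      split
      · exact hc
      · exact ha
    have ht : D.t ∈ S := by
      rw [D.t_def, commutatorElement_def]
      exact mul_mem (mul_mem (mul_mem (hw _) (hw _)) (inv_mem (hw _))) (inv_mem (hw _))
    rw [eq_top_iff, ← D.top, Subgroup.closure_le]
    rintro y ((rfl | rfl | rfl | rfl) | ⟨i, rfl⟩)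
    · exact ha
    · exact hc
    · exact Subgroup.subset_closure (by simp)
    · have := mul_mem hu (inv_mem (pow_mem ht k))
      rwa [mul_inv_cancel_right] at this
    · exact Subgroup.subset_closure (Or.inr ⟨i, rfl⟩)
  · have e : D.u * D.t ^ k = (D.t ^ k)⁻¹ * D.u := by
      have := (conj_pow (a := D.u) (b := D.t) (i := k)).symm
      rw [D.u_t, inv_pow] at this
      rw [← this]
      group
    calc D.u * D.t ^ k * (D.u * D.t ^ k) = (D.t ^ k)⁻¹ * (D.u * D.u) * D.t ^ k := by
          nth_rewrite 1 [e]; group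
      _ = 1 := by rw [D.u_sq, mul_one, inv_mul_cancel]

namespace Coord

variable (C : Coord R D)

theorem act_rel {x y : H} (h : x = y) (n : ℕ) : C.act x n = C.act y n := by rw [h]

theorem act_t_pow (k : ℕ) {n : ℕ} (hn : n < 4096) : C.act (D.t ^ k) n = (app colsT)^[k] n := by
  rw [C.act_pow _ _ hn]
  induction k generalizing n with
  | zero => rfl
  | succ k ih =>
    show (C.act D.t)^[k] (C.act D.t n) = (app colsT)^[k] (app colsT n)
    rw [C.act_t hn]
    exact ih (Classify.lin_colsT.1 n hn)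

theorem sym_act {h : H} (ht : h * D.t = D.t * h) (hW : ∀ v ∈ fixW R D, R.ρ h v ∈ fixW R D)
    (hW' : ∀ v ∈ fixW' R D, R.ρ h v ∈ fixW' R D) : Sym (C.act h) :=
  ⟨C.act_lin h, fun _ hv => C.act_qn h hv, fun _ hv => C.act_comm_t ht hv, fun _ hx => C.act_low hW hx,
    fun _ hy => C.act_high hW' hy⟩

/-- The data for the classification. -/
theorem exists_raw (hfix : ∀ v, R.ρ D.t v = v → v = 0) : ∃ d : Classify.Raw,
    d.A = C.act D.a ∧ d.C = C.act D.c ∧ d.r = (fun i => C.act (D.r i)) ∧ ∃ i, ∃ v < 4096, d.r i v ≠ v := by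
  obtain ⟨-, hcomm, -, -⟩ := halves R D hfix
  have ma : D.a ∈ acGrp D := Subgroup.subset_closure (by simp)
  have mc : D.c ∈ acGrp D := Subgroup.subset_closure (by simp)
  refine ⟨{ A := C.act D.a, C := C.act D.c, r := fun i => C.act (D.r i)
            symA := C.sym_act D.t_a (fun _ hv => ac_fixW R D ma hv) (fun _ hv => ac_fixW' R D ma hv)
            symC := C.sym_act D.t_c (fun _ hv => ac_fixW R D mc hv) (fun _ hv => ac_fixW' R D mc hv)
            linR := fun i => C.act_lin _
            qnR := fun i v hv => C.act_qn _ hv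
            commR := fun i v hv => C.act_comm_t (D.t_r i) hv
            r_low := fun i x hx => ?_, r_high := fun i y hy => ?_, a_sq := fun x hx => ?_
            c_four := fun x hx => ?_, ac2_five := fun x hx => ?_, comm := fun x hx => ?_
            a_r := fun i v hv => ?_, c_r := fun i v hv => ?_ }, rfl, rfl, rfl, ?_⟩
  · show C.code (R.ρ (D.r i) (C.dec x)) = x
    rw [((C.low x (by omega)).2 hx) i, C.code_dec (by omega)]
  · have hl := Classify.xor_lt4096 (C.act_lt (D.r i) (64 * y)) (show 64 * y < 4096 by omega)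
    refine (C.low _ hl).1 ?_
    rw [C.dec_xor _ (C.act_lt _ _) _ (by omega)]
    show C.dec (C.code _) + _ ∈ _
    rw [C.dec_code]
    exact hcomm i _
  · rw [← C.act_mul, D.a_sq, C.act_one (by omega)]
  · rw [← C.act_mul, ← C.act_mul, ← C.act_mul,
      show D.c * D.c * D.c * D.c = D.c ^ 4 by simp [pow_succ, mul_assoc], D.c_four, C.act_one (by omega)]
  · have h := C.act_pow (D.a * (D.c * D.c)) 5 (show x < 4096 by omega)
    rw [D.ac2_five, C.act_one (by omega)] at h
    have e : (fun v => C.act D.a (C.act D.c (C.act D.c v))) = C.act (D.a * (D.c * D.c)) :=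
      funext fun v => by rw [C.act_mul, C.act_mul]
    rw [e]; exact h.symm
  · have hx' : x < 4096 := by omega
    have e : evW D.a D.c wX * evW D.a D.c wY = D.t * (evW D.a D.c wY * evW D.a D.c wX) := by
      rw [D.t_def, commutatorElement_def]; group
    have h := C.act_rel e x
    rw [C.act_mul, C.act_mul, C.act_mul, C.act_evW _ _ _ hx', C.act_evW _ _ _ hx',
      C.act_t (C.act_lt _ _)] at h
    rw [C.act_evW _ _ _ (by rw [← C.act_evW _ _ _ hx']; exact C.act_lt _ _),
      C.act_evW _ _ _ (by rw [← C.act_evW _ _ _ hx']; exact C.act_lt _ _)] at h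
    exact h
  · have h := C.act_rel (mul_inv_eq_iff_eq_mul.1 (D.a_r i)) v
    rwa [C.act_mul, C.act_mul, C.act_evR _ _ (C.act_lt _ _)] at h
  · have h := C.act_rel (mul_inv_eq_iff_eq_mul.1 (D.c_r i)) v
    rwa [C.act_mul, C.act_mul, C.act_evR _ _ (C.act_lt _ _)] at h
  · by_contra hne
    push Not at hne
    have h0 : D.r 0 = 1 := R.faithful _ fun v => by
      conv_rhs => rw [← C.dec_code v, ← hne 0 _ (C.code_lt v)]
      show R.ρ (D.r 0) v = C.dec (C.act (D.r 0) (C.code v))
      rw [← C.act_code, C.dec_code]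
    exact D.t_ne ((Subgroup.mem_bot).1 (D.normal ⊥ inferInstance (by rw [h0]; exact one_mem _)))

/-- The generators `a`, `c` and the four commuting involutions act as in the model. -/
structure Normal : Prop where
  A : ∀ n < 4096, C.act D.a n = app colsA n
  C' : ∀ n < 4096, C.act D.c n = app colsC n
  r : ∀ i : Fin 4, ∀ n < 4096, C.act (D.r i) n = app (colsR.getD i.val []) n

theorem exists_normal (hfix : ∀ v, R.ρ D.t v = v → v = 0) : ∃ C : Coord R D, C.Normal := by
  obtain ⟨C₀⟩ := exists_coord R D hfix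
  obtain ⟨d, hA, hC, hr, hne⟩ := C₀.exists_raw hfix
  obtain ⟨Q, hQ, qA, qC, qr⟩ := Classify.exists_isModel d hne
  obtain ⟨P, hP, hPQ⟩ := hQ.exists_inv
  obtain ⟨C₁, hC₁⟩ := C₀.exists_map hQ
  have key : ∀ h (f : ℕ → ℕ), (∀ v < 4096, Q (C₀.act h v) = f (Q v)) → ∀ n < 4096, C₁.act h n = f n :=
    fun h f hf n hn => by rw [← (hPQ n hn).2, hC₁ h _ (hP.lin.1 n hn), hf _ (hP.lin.1 n hn)]
  exact ⟨C₁, key _ _ fun v hv => by rw [← hA]; exact qA v hv, key _ _ fun v hv => by rw [← hC]; exact qC v hv,
    fun i => key _ _ fun v hv => by rw [← qr i v hv, hr]⟩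

namespace Normal

variable {C} (hN : C.Normal)

include hN

theorem act_word (w : List Bool) {n : ℕ} (hn : n < 4096) :
    C.act (evW D.a D.c w) n = Classify.evL (app colsA) (app colsC) w n := by
  rw [C.act_evW _ _ _ hn]
  exact ((Classify.Conj.evL (n := 4096) (Q := id) (fun x hx => ⟨C.act_lt _ x, (hN.A x hx).symm⟩)
    (fun x hx => ⟨C.act_lt _ x, (hN.C' x hx).symm⟩) w) n hn).2.symm

theorem g_fixW {x : ℕ} (hx : x < 64) : C.act D.g x % 64 = 0 ∧ C.act D.g (64 * x) < 64 := by
  constructor
  · refine (C.high _ (C.act_lt _ _)).1 ?_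
    show C.dec (C.code _) ∈ _
    rw [C.dec_code]
    exact AddSubgroup.mem_map.2 ⟨_, (C.low x (by omega)).2 hx, rfl⟩
  · refine (C.low _ (C.act_lt _ _)).1 ?_
    show C.dec (C.code _) ∈ _
    rw [C.dec_code]
    obtain ⟨w, hw, e⟩ := AddSubgroup.mem_map.1 ((C.high (64 * x) (by omega)).2 (by omega))
    rw [show C.dec (64 * x) = R.ρ D.g w from e.symm, ← R.mul_apply, D.g_g]
    exact ac_fixW R D (evW_mem D _) hw

theorem act_g : ∀ n < 4096, C.act D.g n = app colsG n := by
  have lG := Classify.lin_g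
  let M : ℕ → ℕ := fun n => app colsGInv (C.act D.g n)
  have gM : ∀ n < 4096, app colsG (M n) = C.act D.g n := fun n _ => Classify.g_inv.1 _ (C.act_lt _ n)
  have hlin : IsLin 4096 M := lG.2.1.comp (C.act_lin _)
  have hT : ∀ v < 4096, M (app colsT v) = app colsT (M v) := fun v hv => by
    show app colsGInv (C.act D.g (app colsT v)) = _
    rw [C.act_comm_t D.t_g hv, Classify.g_T.2 _ (C.act_lt _ v)]
  have hlow : ∀ x < 64, M x < 64 := fun x hx => by
    have h1 := (hN.g_fixW hx).1
    have h2 := C.act_lt D.g x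
    show app colsGInv (C.act D.g x) < 64
    rw [show C.act D.g x = 64 * (C.act D.g x / 64) by omega]
    exact (Classify.g_halves _ (by omega)).2
  have hhigh : ∀ y < 64, M (64 * y) % 64 = 0 := fun y hy => (Classify.g_halves _ (hN.g_fixW hy).2).1
  have hsym : Sym M := ⟨hlin, fun v hv => by
    show qn (app colsGInv (C.act D.g v)) = _
    rw [Classify.g_qn _ (C.act_lt _ v), C.act_qn _ hv], hT, hlow, hhigh⟩
  -- the relation with a generator
  have hrel : ∀ (x : H) (f : ℕ → ℕ) (w : List Bool), IsLin 4096 f → (∀ v < 4096, C.act x v = f v) →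
      (∀ v < 4096, Classify.evL (app colsA) (app colsC) w (app colsG v) = app colsG (f v)) →
      (∃ k : ℕ, D.g * x * D.g⁻¹ = D.t ^ k * evW D.a D.c w) →
      ∃ j, ∀ v < 4096, M (f v) = (app colsT)^[j] (f (M v)) := by
    intro x f w lf hf hw ⟨k, hk⟩
    refine ⟨k, fun v hv => ?_⟩
    have h := C.act_rel (mul_inv_eq_iff_eq_mul.1 hk) v
    rw [C.act_mul, hf v hv, C.act_mul, C.act_mul, hN.act_word w (C.act_lt _ v), ← gM v hv, hw _ (hlin.1 v hv),
      C.act_t_pow k (lG.1.1 _ (lf.1 _ (hlin.1 v hv)))] at h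
    show app colsGInv (C.act D.g (f v)) = _
    rw [h, Classify.comm_T_iter Classify.g_T.2 k (lG.1.1 _ (lf.1 _ (hlin.1 v hv))),
      Classify.g_inv.2 _ (lf.1 _ (hlin.1 v hv))]
  obtain ⟨-, -, i, hi, hMi⟩ := Classify.exists_scalar hlin (fun v hv e => hsym.eq_zero hv e) hlow hT
    (hrel D.a _ wGA Classify.lin_colsAC.1 hN.A Classify.g_a D.g_a)
    (hrel D.c _ wGC Classify.lin_colsAC.2 hN.C' Classify.g_c D.g_c)
  have hG : ∀ n < 4096, C.act D.g n = app colsG ((app colsT)^[i] n) := fun n hn => by
    rw [← gM n hn, hsym.congr_low (Classify.sym_T_iter i) hMi n hn]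
  intro n hn
  rw [hG n hn]
  suffices i = 0 by subst this; rfl
  have h := C.act_rel D.g_g 1
  rw [C.act_mul, hN.act_word _ (by norm_num), hG _ (C.act_lt _ _), hG 1 (by norm_num),
    ← Classify.comm_T_iter Classify.g_T.1 i (Classify.T_lt i (by norm_num)), ← Function.iterate_add_apply,
    ← Classify.g_g 1 (by norm_num)] at h
  have hl := Classify.T_lt (i + i) (show 1 < 4096 by norm_num)
  have e := congrArg (app colsGInv) (congrArg (app colsGInv) h)
  rw [Classify.g_inv.2 _ (lG.1.1 _ hl), Classify.g_inv.2 _ hl, Classify.g_inv.2 _ (lG.1.1 1 (by norm_num)),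
    Classify.g_inv.2 1 (by norm_num), Classify.T_mod _ (by norm_num)] at e
  have := (Classify.T_fixed 1 (by norm_num) _ (Nat.mod_lt _ (by norm_num)) e).resolve_left (by norm_num)
  omega

theorem act_u : ∃ i < 3, ∀ n < 4096, C.act D.u n = app colsU ((app colsT)^[i] n) := by
  have lU := Classify.lin_g.2.2
  let M : ℕ → ℕ := fun n => app colsU (C.act D.u n)
  have uM : ∀ n < 4096, app colsU (M n) = C.act D.u n := fun n _ => Classify.u_u _ (C.act_lt _ n)
  have hlin : IsLin 4096 M := lU.comp (C.act_lin _)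
  have hlow : ∀ x < 64, M x < 64 := fun x hx =>
    Classify.u_low _ (C.act_low (fun _ hv => norm_fixW R D (u_norm D) hv) hx)
  have hinj : ∀ v < 4096, M v = 0 → v = 0 := fun v hv e => by
    have h : C.act D.u (C.act D.u v) = v := by rw [← C.act_mul, D.u_sq, C.act_one hv]
    rw [← uM v hv, e] at h
    rw [← h, lU.zero (by norm_num), (C.act_lin _).zero (by norm_num)]
  have hT : ∀ v < 4096, M (app colsT v) = app colsT (M v) := fun v hv => by
    have h : D.u * D.t = D.t ^ 2 * D.u := by
      rw [← mul_inv_eq_iff_eq_mul, D.u_t]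
      refine inv_eq_of_mul_eq_one_right ?_
      rw [← pow_succ', D.t_cube]
    have h' := C.act_rel h v
    rw [C.act_mul, C.act_mul, C.act_t hv, C.act_t_pow 2 (C.act_lt _ v)] at h'
    show app colsU (C.act D.u (app colsT v)) = _
    rw [h', Classify.u_T_iter 2 (C.act_lt _ v), Classify.T_mod _ (lU.1 _ (C.act_lt _ v))]
    rfl
  have hA : ∃ j, ∀ v < 4096, M (app colsA v) = (app colsT)^[j] (app colsA (M v)) := by
    obtain ⟨k, hk⟩ := D.u_a
    refine ⟨2 * k, fun v hv => ?_⟩
    have h := C.act_rel (mul_inv_eq_iff_eq_mul.1 hk) v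
    rw [C.act_mul, hN.A v hv, C.act_mul, C.act_mul, hN.A _ (C.act_lt _ v),
      C.act_t_pow k (Classify.sym_colsA.lin.1 _ (C.act_lt _ v)), ← uM v hv, Classify.u_a _ (hlin.1 v hv)] at h
    show app colsU (C.act D.u (app colsA v)) = _
    rw [h, Classify.u_T_iter k (lU.1 _ (Classify.sym_colsA.lin.1 _ (hlin.1 v hv))),
      Classify.u_u _ (Classify.sym_colsA.lin.1 _ (hlin.1 v hv))]
  have hC : ∃ j, ∀ v < 4096, M (app colsC v) = (app colsT)^[j] (app colsC (M v)) := by
    obtain ⟨k, hk⟩ := D.u_c
    refine ⟨2 * (k + 1), fun v hv => ?_⟩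
    have h := C.act_rel (mul_inv_eq_iff_eq_mul.1 hk) v
    have hl := Classify.sym_colsC.lin.1 _ (hlin.1 v hv)
    rw [C.act_mul, hN.C' v hv, C.act_mul, C.act_mul, hN.act_word _ (C.act_lt _ v), ← uM v hv,
      Classify.u_c _ (hlin.1 v hv), C.act_t_pow k (Classify.lin_colsT.1 _ (lU.1 _ hl))] at h
    show app colsU (C.act D.u (app colsC v)) = _
    rw [h, ← Function.iterate_succ_apply (app colsT) k, Classify.u_T_iter (k + 1) (lU.1 _ hl),
      Classify.u_u _ hl]
  obtain ⟨nA, nC, i, hi, hMi⟩ := Classify.exists_scalar hlin hinj hlow hT hA hC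
  refine ⟨i, hi, fun n hn => ?_⟩
  rw [← uM n hn]
  congr 1
  -- remove the scalar
  let N : ℕ → ℕ := fun v => (app colsT)^[3 - i] (M v)
  have sT := Classify.sym_T_iter (3 - i)
  have lN : IsLin 4096 N := sT.lin.comp hlin
  have e3 : ∀ v < 4096, (app colsT)^[i + (3 - i)] v = v := fun v hv => by
    rw [Classify.T_mod _ hv, show (i + (3 - i)) % 3 = 0 by omega]; rfl
  have Nlow : ∀ x < 64, N x = x := fun x hx => by
    show (app colsT)^[3 - i] (M x) = x
    rw [hMi x hx, ← Function.iterate_add_apply, Nat.add_comm]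
    exact e3 x (by omega)
  suffices h : ∀ y < 64, N (64 * y) = 64 * y by
    have hid : ∀ v < 4096, N v = v := fun v hv => by
      have hs := Classify.split_code v hv
      have hx : v % 64 < 64 := Nat.mod_lt _ (by norm_num)
      have e := lN.2 (v % 64) (by omega) (64 * (v / 64)) (by omega)
      rw [← hs, Nlow (v % 64) hx, h (v / 64) (by omega), ← hs] at e
      exact e
    have e := congrArg (app colsT)^[i] (hid n hn)
    rw [show N n = (app colsT)^[3 - i] (M n) from rfl, ← Function.iterate_add_apply, e3 _ (hlin.1 n hn)] at e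
    exact e
  have NT : ∀ v < 4096, N (app colsT v) = app colsT (N v) := fun v hv => by
    show (app colsT)^[3 - i] (M (app colsT v)) = _
    rw [hT v hv, sT.comm_T _ (hlin.1 v hv)]
  have NA : ∀ v < 4096, N (app colsA v) = app colsA (N v) := fun v hv => by
    show (app colsT)^[3 - i] (M (app colsA v)) = _
    rw [nA v hv, ← Classify.comm_T_iter Classify.sym_colsA.comm_T _ (hlin.1 v hv)]
  have NC : ∀ v < 4096, N (app colsC v) = app colsC (N v) := fun v hv => by
    show (app colsT)^[3 - i] (M (app colsC v)) = _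
    rw [nC v hv, ← Classify.comm_T_iter Classify.sym_colsC.comm_T _ (hlin.1 v hv)]
  have Nq : ∀ v < 4096, qn (N v) = qn v := fun v hv => by
    show qn ((app colsT)^[3 - i] (M v)) = _
    rw [sT.qn_inv _ (hlin.1 v hv)]
    show qn (app colsU (C.act D.u v)) = _
    rw [Classify.u_qn _ (C.act_lt _ v), C.act_qn _ hv]
  let f : ℕ → ℕ := fun y => N (64 * y) % 64
  have fl : ∀ y, f y < 64 := fun y => Nat.mod_lt _ (by norm_num)
  have split : ∀ y < 64, N (64 * y) = Nat.xor (f y) (64 * y) := fun y hy => by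
    have hl := lN.1 (64 * y) (by omega)
    have hy' : N (64 * y) / 64 < 64 := by omega
    have hs := Classify.split_code _ hl
    have q0 := Nq _ (show 64 * y < 4096 by omega)
    rw [hs, Classify.qn_zero_high y hy] at q0
    have : N (64 * y) / 64 = y := by
      refine Classify.eq_of_pr_left hy' hy fun x hx => ?_
      have hx := Classify.bits6_lt x hx
      have q := Nq _ (Classify.split_lt hx hy)
      rw [lN.2 x (by omega) _ (by omega), Nlow x hx, hs,
        show Nat.xor x (Nat.xor (N (64 * y) % 64) (64 * (N (64 * y) / 64))) =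
          Nat.xor (Nat.xor x (N (64 * y) % 64)) (64 * (N (64 * y) / 64)) from (Nat.xor_assoc _ _ _).symm] at q
      change Classify.pr _ _ = Classify.pr _ _ at q
      rw [Classify.pr_xor_left hx (Nat.mod_lt _ (by norm_num)) hy',
        show Classify.pr (N (64 * y) % 64) (N (64 * y) / 64) = false from q0] at q
      simpa using q
    rw [hs, this]
  have hS : Classify.Semi f := by
    refine ⟨⟨fun y _ => fl y, fun y hy y' hy' => ?_⟩, fun y hy => ?_⟩
    · show N _ % 64 = _
      have e : 64 * Nat.xor y y' = Nat.xor (64 * y) (64 * y') := by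
        simpa [Nat.shiftLeft_eq, Nat.mul_comm] using (Nat.shiftLeft_xor_distrib (a := y) (b := y') (i := 6))
      rw [e, lN.2 _ (by omega) _ (by omega)]
      exact Nat.xor_mod_two_pow (n := 6)
    · show N (64 * tl y) % 64 = _
      rw [← Classify.colsT_high y hy, NT _ (by omega), split y hy, Classify.colsT_split (fl y) hy,
        (Classify.split_mod _ (Classify.tl_lt _) _ (Classify.tl_lt y)).1]
  have main : ∀ g : ℕ → ℕ, Sym g → (∀ v < 4096, N (g v) = g (N v)) → ∀ y < 64, f (g (64 * y) / 64) = g (f y) := by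
    intro g hg hc y hy
    obtain ⟨hl, e⟩ := hg.hi_spec hy
    show N (64 * Classify.Sym.hi g y) % 64 = _
    rw [← e, hc _ (by omega), split y hy, hg.split (fl y) hy, (Classify.split_mod _ (hg.low _ (fl y)) _ hl).1]
  intro y hy
  rw [split y hy, Classify.semi_hom hS (main _ Classify.sym_colsA NA) (main _ Classify.sym_colsC NC) y hy,
    Classify.xor_zero_left]

end Normal

end Coord

end ModelExists

open ModelExists in
/-- The action is the model, possibly after changing the outer involution by a power of `t`. -/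
theorem exists_model {H V : Type*} [Group H] [AddCommGroup V] {R : CfsgLib.FischerTwoFour.QRep H V}
    (D : Gens H) (hfix : ∀ v, R.ρ D.t v = v → v = 0) : ∃ M : Model R, M.gens.t = D.t := by
  obtain ⟨C, hN⟩ := ModelExists.Coord.exists_normal (R := R) (D := D) hfix
  obtain ⟨i, hi, hu⟩ := hN.act_u
  obtain ⟨D', ea, ec, eg, er, et, eu⟩ := exists_twist D (3 - i)
  refine ⟨{ gens := D', code := C.code, code_lt := C.code_lt
            code_inj := fun v w h => by rw [← C.dec_code v, h, C.dec_code]
            code_surj := fun n hn => ⟨C.dec n, C.code_dec hn⟩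
            code_add := C.code_add, code_q := C.code_q
            act_a := fun v => by rw [C.act_code, ea, hN.A _ (C.code_lt v)]
            act_c := fun v => by rw [C.act_code, ec, hN.C' _ (C.code_lt v)]
            act_g := fun v => by rw [C.act_code, eg, hN.act_g _ (C.code_lt v)]
            act_u := fun v => ?_
            act_t := fun v => by rw [C.act_code, et, C.act_t (C.code_lt v)]
            act_r := fun j v => by rw [C.act_code, er, hN.r j _ (C.code_lt v)] }, et⟩
  have hl := C.code_lt v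
  rw [C.act_code, eu, C.act_mul, C.act_t_pow _ hl, hu _ (Classify.T_lt _ hl), ← Function.iterate_add_apply,
    Classify.T_mod _ hl, show (i + (3 - i)) % 3 = 0 by omega]
  rfl

end CfsgLib.J4Type
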