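import Cfsg.Agent.Lib.J4Type.Interface
import Cfsg.Agent.Lib.J4Type.Model.Dihedral

/-!
The fixed space `W` of the four commuting involutions and its image `g W`: two complementary totally
singular halves.
-/

set_option autoImplicit false
set_option linter.unusedSectionVars false

namespace CfsgLib.J4Type.ModelExists

open CfsgLib.FischerTwoFour (QRep)
open scoped commutatorElement

variable {H V : Type*} [Group H] [AddCommGroup V] (R : QRep H V) (D : Gens H)

theorem finite_H (D : Gens H) : Finite H := Nat.finite_of_card_ne_zero (by rw [D.card]; norm_num)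

theorem finite_V (R : QRep H V) : Finite V := Nat.finite_of_card_ne_zero (by rw [R.card_V]; norm_num)

theorem add_cancel2 (R : QRep H V) {x y : V} (h : x + y = 0) : x = y := by
  calc x = x + (y + y) := by rw [R.two, add_zero]
    _ = (x + y) + y := (add_assoc _ _ _).symm
    _ = y := by rw [h, zero_add]

/-- The fixed space of the four involutions. -/
def fixW : AddSubgroup V where
  carrier := {v | ∀ i, R.ρ (D.r i) v = v}
  add_mem' {u v} hu hv i := by rw [map_add, hu i, hv i]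
  zero_mem' i := map_zero _
  neg_mem' {v} hv i := by rw [map_neg, hv i]

/-- The image of the fixed space under `g`. -/
noncomputable def fixW' : AddSubgroup V := (fixW R D).map (R.ρ D.g : V →+ V)

/-- The subgroup generated by the four involutions. -/
def rGrp : Subgroup H := Subgroup.closure (Set.range D.r)

theorem evR_mem (m : ℕ) : evR D.r m ∈ rGrp D := by
  refine Subgroup.list_prod_mem _ fun x hx => ?_
  obtain ⟨i, rfl⟩ := List.mem_ofFn.1 hx
  split
  · exact Subgroup.subset_closure ⟨i, rfl⟩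
  · exact one_mem _

theorem fix_rGrp {v : V} (hv : v ∈ fixW R D) : ∀ s ∈ rGrp D, R.ρ s v = v := fun s hs => by
  induction hs using Subgroup.closure_induction with
  | mem x hx => obtain ⟨i, rfl⟩ := hx; exact hv i
  | one => exact R.one_apply v
  | mul x y _ _ hx hy => rw [R.mul_apply, hy, hx]
  | inv x _ hx =>
    have h := R.inv_apply x v
    rwa [hx] at h

theorem mem_norm_of {h : H} {S : Subgroup H} {s : Set H} (hS : S = Subgroup.closure s)
    (hgen : ∀ x ∈ s, h * x * h⁻¹ ∈ S) [Finite H] : h ∈ Subgroup.normalizer (S : Set H) := by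
  refine Subgroup.mem_normalizer_fintype fun x hx => ?_
  have hle : S.map (MulAut.conj h).toMonoidHom ≤ S := by
    conv_lhs => rw [hS]
    rw [MonoidHom.map_closure, Subgroup.closure_le]
    rintro _ ⟨y, hy, rfl⟩
    exact hgen y hy
  exact hle ⟨x, hx, rfl⟩

/-- `⟨a, c, t⟩`. -/
def acGrp : Subgroup H := Subgroup.closure {D.a, D.c, D.t}

theorem evW_mem : ∀ w : List Bool, evW D.a D.c w ∈ acGrp D := fun w =>
  Subgroup.list_prod_mem _ fun x hx => by
    obtain ⟨b, -, rfl⟩ := List.mem_map.1 hx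
    split <;> exact Subgroup.subset_closure (by simp)

theorem acGrp_norm : acGrp D ≤ Subgroup.normalizer (rGrp D : Set H) := by
  haveI := finite_H D
  refine (Subgroup.closure_le _).2 ?_
  rintro x (rfl | rfl | rfl) <;> refine mem_norm_of (S := rGrp D) rfl ?_ <;> rintro _ ⟨i, rfl⟩
  · rw [D.a_r]; exact evR_mem D _
  · rw [D.c_r]; exact evR_mem D _
  · rw [← D.t_r i, mul_inv_cancel_right]; exact Subgroup.subset_closure ⟨i, rfl⟩

theorem u_norm : D.u ∈ Subgroup.normalizer (rGrp D : Set H) := by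
  haveI := finite_H D
  refine mem_norm_of (S := rGrp D) rfl ?_
  rintro _ ⟨i, rfl⟩
  rw [D.u_r]; exact evR_mem D _

theorem g_norm_ac : D.g ∈ Subgroup.normalizer (acGrp D : Set H) := by
  haveI := finite_H D
  refine mem_norm_of (S := acGrp D) rfl ?_
  rintro x (rfl | rfl | rfl)
  · obtain ⟨k, hk⟩ := D.g_a
    rw [hk]; exact mul_mem (pow_mem (Subgroup.subset_closure (by simp)) k) (evW_mem D _)
  · obtain ⟨k, hk⟩ := D.g_c
    rw [hk]; exact mul_mem (pow_mem (Subgroup.subset_closure (by simp)) k) (evW_mem D _)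
  · rw [D.t_g, mul_inv_cancel_right]; exact Subgroup.subset_closure (by simp)

theorem norm_fixW {h : H} (hh : h ∈ Subgroup.normalizer (rGrp D : Set H)) {v : V} (hv : v ∈ fixW R D) :
    R.ρ h v ∈ fixW R D := fun i => by
  have hm : h⁻¹ * D.r i * h ∈ rGrp D := by
    have := (Subgroup.mem_normalizer_iff.1 (inv_mem hh) (D.r i)).1 (Subgroup.subset_closure ⟨i, rfl⟩)
    rwa [inv_inv] at this
  rw [← R.mul_apply, show D.r i * h = h * (h⁻¹ * D.r i * h) by group, R.mul_apply, fix_rGrp R D hv _ hm]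

theorem ac_fixW {h : H} (hh : h ∈ acGrp D) {v : V} (hv : v ∈ fixW R D) : R.ρ h v ∈ fixW R D :=
  norm_fixW R D (acGrp_norm D hh) hv

theorem ac_fixW' {h : H} (hh : h ∈ acGrp D) {v : V} (hv : v ∈ fixW' R D) : R.ρ h v ∈ fixW' R D := by
  obtain ⟨w, hw, rfl⟩ := AddSubgroup.mem_map.1 hv
  refine AddSubgroup.mem_map.2 ⟨R.ρ (D.g⁻¹ * h * D.g) w, ac_fixW R D ?_ hw, ?_⟩
  · have := (Subgroup.mem_normalizer_iff.1 (inv_mem (g_norm_ac D)) h).1 hh
    rwa [inv_inv] at this
  · show R.ρ D.g (R.ρ (D.g⁻¹ * h * D.g) w) = R.ρ h (R.ρ D.g w)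
    rw [← R.mul_apply, ← R.mul_apply, ← mul_assoc, ← mul_assoc, mul_inv_cancel, one_mul]

section Fpf

variable (hfix : ∀ v, R.ρ D.t v = v → v = 0)

include hfix

theorem t_sq (v : V) : R.ρ D.t (R.ρ D.t v) = R.ρ D.t v + v := by
  refine add_cancel2 R (hfix _ ?_)
  rw [map_add, map_add, ← R.mul_apply, ← R.mul_apply,
    show D.t * D.t * D.t = D.t ^ 3 by rw [pow_three, mul_assoc], D.t_cube, R.one_apply]
  abel

theorem fixW_ne : ∃ v ∈ fixW R D, v ≠ 0 := by
  haveI := finite_V R
  have key : ∀ l : List (Fin 4), ∃ v : V, v ≠ 0 ∧ ∀ i ∈ l, R.ρ (D.r i) v = v := by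
    intro l
    induction l with
    | nil =>
      haveI : Nontrivial V := (Finite.one_lt_card_iff_nontrivial).1 (by rw [R.card_V]; norm_num)
      obtain ⟨v, hv⟩ := exists_ne (0 : V)
      exact ⟨v, hv, fun i hi => absurd hi (List.not_mem_nil)⟩
    | cons j l ih =>
      obtain ⟨v, hv, hl⟩ := ih
      by_cases hj : R.ρ (D.r j) v = v
      · exact ⟨v, hv, fun i hi => (List.mem_cons.1 hi).elim (fun e => by rw [e]; exact hj) (hl i)⟩
      refine ⟨R.ρ (D.r j) v + v, fun e => hj (add_cancel2 R e), fun i hi => ?_⟩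
      rw [map_add, ← R.mul_apply, D.r_comm, R.mul_apply]
      rcases List.mem_cons.1 hi with rfl | hi
      · rw [← R.mul_apply, D.r_sq, R.one_apply, add_comm]
      · rw [hl i hi]
  obtain ⟨v, hv, hl⟩ := key (List.finRange 4)
  exact ⟨v, fun i => hl i (List.mem_finRange i), hv⟩

theorem four_pow (S : AddSubgroup V) (hT : ∀ v ∈ S, R.ρ D.t v ∈ S) : ∀ a, Nat.card S = 2 ^ a → 2 ∣ a := by
  intro a ha
  haveI := finite_V R
  haveI := Fact.mk Nat.prime_three
  have hpow : ∀ (k : ℕ) (v : V), v ∈ S → R.ρ (D.t ^ k) v ∈ S := by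
    intro k
    induction k with
    | zero => intro v hv; rw [pow_zero, R.one_apply]; exact hv
    | succ k ih => intro v hv; rw [pow_succ', R.mul_apply]; exact hT _ (ih v hv)
  letI : MulAction (Multiplicative (ZMod 3)) S :=
    { smul := fun m v => ⟨R.ρ (D.t ^ (Multiplicative.toAdd m).val) v, hpow _ v v.2⟩
      one_smul := fun v => Subtype.ext (by
        show R.ρ (D.t ^ (0 : ZMod 3).val) (v : V) = v
        rw [ZMod.val_zero, pow_zero, R.one_apply])
      mul_smul := fun m m' v => Subtype.ext (by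
        show R.ρ (D.t ^ (Multiplicative.toAdd m + Multiplicative.toAdd m').val) (v : V) =
          R.ρ (D.t ^ (Multiplicative.toAdd m).val) (R.ρ (D.t ^ (Multiplicative.toAdd m').val) v)
        rw [← R.mul_apply, ← pow_add, ZMod.val_add]
        congr 2
        conv_rhs => rw [← Nat.div_add_mod ((Multiplicative.toAdd m).val + (Multiplicative.toAdd m').val) 3,
          pow_add, pow_mul, D.t_cube, one_pow, one_mul]) }
  have hP : IsPGroup 3 (Multiplicative (ZMod 3)) := IsPGroup.of_card (n := 1) (by simp)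
  have hmod := hP.card_modEq_card_fixedPoints S
  have hf : Nat.card (MulAction.fixedPoints (Multiplicative (ZMod 3)) S) = 1 := by
    refine Nat.card_eq_one_iff_unique.2 ⟨⟨fun x y => ?_⟩, ⟨⟨⟨0, zero_mem _⟩, fun m => Subtype.ext (map_zero _)⟩⟩⟩
    have z : ∀ x : MulAction.fixedPoints (Multiplicative (ZMod 3)) S, (x.1 : V) = 0 := fun x => hfix _ (by
      have := congrArg Subtype.val (x.2 (Multiplicative.ofAdd 1))
      change R.ρ (D.t ^ (1 : ZMod 3).val) (x.1 : V) = _ at this
      rwa [ZMod.val_one, pow_one] at this)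
    exact Subtype.ext (Subtype.ext ((z x).trans (z y).symm))
  rw [hf, ha] at hmod
  rcases Nat.even_or_odd' a with ⟨k, rfl | rfl⟩
  · exact ⟨k, rfl⟩
  · exfalso
    rw [pow_succ, pow_mul] at hmod
    have h4 : ((2 ^ 2 : ℕ) ^ k) % 3 = 1 := by rw [Nat.pow_mod]; norm_num
    unfold Nat.ModEq at hmod
    omega

theorem big (S : AddSubgroup V) (ha : ∀ v ∈ S, R.ρ D.a v ∈ S) (hc : ∀ v ∈ S, R.ρ D.c v ∈ S)
    (ht : ∀ v ∈ S, R.ρ D.t v ∈ S) (hne : ∃ v ∈ S, v ≠ 0) : 64 ≤ Nat.card S := by
  by_contra hlt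
  rw [not_le] at hlt
  haveI := finite_V R
  obtain ⟨a, -, hcard⟩ := (Nat.dvd_prime_pow Nat.prime_two).1 (show Nat.card S ∣ 2 ^ 12 by
    rw [show (2 : ℕ) ^ 12 = Nat.card V by rw [R.card_V]; norm_num]; exact AddSubgroup.card_addSubgroup_dvd_card S)
  have hev := four_pow R D hfix S ht a hcard
  have ha6 : a < 6 := by
    by_contra h
    have := Nat.pow_le_pow_right (show 1 ≤ 2 by norm_num) (not_lt.1 h)
    omega
  let ρc : V →+ V := R.ρ D.c
  let N : V →+ V := ρc + AddMonoidHom.id V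
  have hN : ∀ v, N v = R.ρ D.c v + v := fun v => rfl
  have hNS : ∀ v ∈ S, N v ∈ S := fun v hv => add_mem (hc v hv) hv
  have hNt : ∀ v, N (R.ρ D.t v) = R.ρ D.t (N v) := fun v => by
    rw [hN, hN, map_add, ← R.mul_apply, D.t_c, R.mul_apply]
  have hN2 : ∀ v, N (N v) = R.ρ D.c (R.ρ D.c v) + v := fun v => by
    rw [hN, hN, map_add, add_assoc, ← add_assoc (R.ρ D.c v) (R.ρ D.c v), R.two, zero_add]
  have hN4 : ∀ v, N (N (N (N v))) = 0 := fun v => by
    rw [hN2, hN2, map_add, map_add, ← R.mul_apply, ← R.mul_apply, ← R.mul_apply,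
      show D.c * D.c * D.c * D.c = D.c ^ 4 by simp [pow_succ, mul_assoc], D.c_four, R.one_apply]
    rw [show v + R.ρ D.c (R.ρ D.c v) + (R.ρ D.c (R.ρ D.c v) + v) =
      (v + v) + (R.ρ D.c (R.ρ D.c v) + R.ρ D.c (R.ρ D.c v)) by abel, R.two, zero_add, R.two]
  have hsq : ∀ v ∈ S, N (N v) = 0 := by
    by_contra hh
    push Not at hh
    obtain ⟨v, hv, hv2⟩ := hh
    let K1 : AddSubgroup V := S ⊓ N.ker
    let K2 : AddSubgroup V := S ⊓ (N.comp N).ker
    have hT1 : ∀ w ∈ K1, R.ρ D.t w ∈ K1 := fun w hw => ⟨ht w hw.1, by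
      show N _ = 0
      rw [hNt, show N w = 0 from hw.2, map_zero]⟩
    have hT2 : ∀ w ∈ K2, R.ρ D.t w ∈ K2 := fun w hw => ⟨ht w hw.1, by
      show N (N _) = 0
      rw [hNt, hNt, show N (N w) = 0 from hw.2, map_zero]⟩
    have h12 : K1 ≤ K2 := fun w hw => ⟨hw.1, by
      show N (N w) = 0
      rw [show N w = 0 from hw.2, map_zero]⟩
    have h2S : K2 < S := lt_of_le_of_ne inf_le_left fun e => hv2 (show v ∈ K2 by rw [e]; exact hv).2
    have h1lt : K1 < K2 := by
      refine lt_of_le_of_ne h12 fun e => hv2 ?_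
      -- the kernel stops growing, against nilpotency
      have stop : ∀ w ∈ S, N (N w) = 0 → N w = 0 := fun w hw h =>
        (show w ∈ K1 by rw [e]; exact ⟨hw, h⟩).2
      have h3 : N (N (N v)) = 0 := stop _ (hNS _ (hNS _ hv)) (hN4 v)
      exact stop _ (hNS _ hv) h3
    obtain ⟨b, -, hb⟩ := (Nat.dvd_prime_pow Nat.prime_two).1 (show Nat.card K1 ∣ 2 ^ a from
      hcard ▸ AddSubgroup.card_dvd_of_le inf_le_left)
    obtain ⟨e, -, he⟩ := (Nat.dvd_prime_pow Nat.prime_two).1 (show Nat.card K2 ∣ 2 ^ a from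
      hcard ▸ AddSubgroup.card_dvd_of_le inf_le_left)
    have e1 := four_pow R D hfix K1 hT1 b hb
    have e2 := four_pow R D hfix K2 hT2 e he
    have hb0 : 0 < b := by
      rcases Nat.eq_zero_or_pos b with rfl | h
      · exfalso
        have hbot := AddSubgroup.eq_bot_of_card_eq K1 (by rw [hb, pow_zero])
        have h3 : N (N (N v)) = 0 := by
          have : N (N (N v)) ∈ K1 := ⟨hNS _ (hNS _ (hNS _ hv)), hN4 v⟩
          rwa [hbot, AddSubgroup.mem_bot] at this
        have : N (N v) ∈ K1 := ⟨hNS _ (hNS _ hv), h3⟩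
        rw [hbot, AddSubgroup.mem_bot] at this
        exact hv2 this
      · exact h
    have lt1 : b < e := (Nat.pow_lt_pow_iff_right (by norm_num : 1 < 2)).1 (by
      rw [← hb, ← he]; exact Set.ncard_lt_ncard h1lt (Set.toFinite _))
    have lt2 : e < a := (Nat.pow_lt_pow_iff_right (by norm_num : 1 < 2)).1 (by
      rw [← he, ← hcard]; exact Set.ncard_lt_ncard h2S (Set.toFinite _))
    omega
  -- on `S` the two generators are involutions
  obtain ⟨w₀, hw₀, hw0⟩ := hne
  let K : Subgroup H :=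
    { carrier := {h | (∀ v ∈ S, R.ρ h v ∈ S) ∧ ∀ v ∈ S, R.ρ h⁻¹ v ∈ S}
      one_mem' := ⟨fun v hv => by rwa [R.one_apply], fun v hv => by rwa [inv_one, R.one_apply]⟩
      mul_mem' := fun {x y} hx hy => ⟨fun v hv => by rw [R.mul_apply]; exact hx.1 _ (hy.1 v hv),
        fun v hv => by rw [mul_inv_rev, R.mul_apply]; exact hy.2 _ (hx.2 v hv)⟩
      inv_mem' := fun {x} hx => ⟨hx.2, by rw [inv_inv]; exact hx.1⟩ }
  have haK : D.a ∈ K := ⟨ha, by rw [inv_eq_of_mul_eq_one_right D.a_sq]; exact ha⟩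
  have hcK : D.c ∈ K := ⟨hc, by
    rw [inv_eq_of_mul_eq_one_right (show D.c * (D.c * D.c * D.c) = 1 by
      rw [← mul_assoc, ← mul_assoc, ← D.c_four]; simp [pow_succ])]
    intro v hv; rw [R.mul_apply, R.mul_apply]; exact hc _ (hc _ (hc _ hv))⟩
  let π : K →* Equiv.Perm S :=
    { toFun := fun k =>
        { toFun := fun v => ⟨R.ρ k v, k.2.1 v v.2⟩
          invFun := fun v => ⟨R.ρ (k : H)⁻¹ v, k.2.2 v v.2⟩
          left_inv := fun v => Subtype.ext (R.inv_apply _ _)
          right_inv := fun v => Subtype.ext (by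
            show R.ρ (k : H) (R.ρ (k : H)⁻¹ (v : V)) = v
            rw [← R.mul_apply, mul_inv_cancel, R.one_apply]) }
      map_one' := Equiv.ext fun v => Subtype.ext (R.one_apply _)
      map_mul' := fun a b => Equiv.ext fun v => Subtype.ext (R.mul_apply _ _ _) }
  have hA : π ⟨D.a, haK⟩ * π ⟨D.a, haK⟩ = 1 := by
    rw [← map_mul, show (⟨D.a, haK⟩ : K) * ⟨D.a, haK⟩ = 1 from Subtype.ext D.a_sq, map_one]
  have hC : π ⟨D.c, hcK⟩ * π ⟨D.c, hcK⟩ = 1 := Equiv.ext fun v => Subtype.ext (by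
    show R.ρ D.c (R.ρ D.c (v : V)) = v
    have := hsq v v.2
    rw [hN2] at this
    exact add_cancel2 R this)
  have hev : ∀ w : List Bool, ∃ hm : evW D.a D.c w ∈ K, π ⟨_, hm⟩ =
      (w.map fun s => if s then π ⟨D.c, hcK⟩ else π ⟨D.a, haK⟩).prod := by
    intro w
    induction w with
    | nil => exact ⟨one_mem K, by rw [List.map_nil, List.prod_nil, ← map_one π]; rfl⟩
    | cons s w ih =>
      obtain ⟨hm, he⟩ := ih
      cases s
      · exact ⟨mul_mem haK hm, by rw [List.map_cons, List.prod_cons, ← he, if_neg Bool.false_ne_true, ← map_mul]; rfl⟩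
      · exact ⟨mul_mem hcK hm, by rw [List.map_cons, List.prod_cons, ← he, if_pos rfl, ← map_mul]; rfl⟩
  obtain ⟨hx, ex⟩ := hev wX
  obtain ⟨hy, ey⟩ := hev wY
  have htm : D.t ∈ K := by
    rw [D.t_def, commutatorElement_def]
    exact mul_mem (mul_mem (mul_mem hx hy) (inv_mem hx)) (inv_mem hy)
  have htK : (⟨D.t, htm⟩ : K) = ⟨_, hx⟩ * ⟨_, hy⟩ * (⟨_, hx⟩ : K)⁻¹ * (⟨_, hy⟩ : K)⁻¹ :=
    Subtype.ext (by
      show D.t = evW D.a D.c wX * evW D.a D.c wY * (evW D.a D.c wX)⁻¹ * (evW D.a D.c wY)⁻¹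
      rw [D.t_def, commutatorElement_def])
  have hsq1 := comm_sq hA hC wX wY ex ey (by
    rw [← map_inv, ← map_inv, ← map_mul π ⟨_, hx⟩, ← map_mul, ← map_mul, ← htK, ← map_mul, ← map_mul]
    exact congrArg π (Subtype.ext D.t_a))
  rw [← map_inv, ← map_inv, ← map_mul π ⟨_, hx⟩, ← map_mul, ← map_mul, ← htK, ← map_mul] at hsq1
  have := congrArg (fun f : Equiv.Perm S => ((f ⟨w₀, hw₀⟩ : S) : V)) hsq1
  change R.ρ (D.t * D.t) w₀ = w₀ at this
  refine hw0 (hfix _ ?_)
  calc R.ρ D.t w₀ = R.ρ D.t (R.ρ (D.t * D.t) w₀) := by rw [this]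
    _ = w₀ := by rw [← R.mul_apply, ← pow_three, D.t_cube, R.one_apply]

/-- The commutators with the four involutions. -/
def commW : AddSubgroup V := AddSubgroup.closure {x | ∃ i v, x = R.ρ (D.r i) v + v}

omit hfix in
theorem b_commW {w : V} (hw : w ∈ fixW R D) : ∀ x ∈ commW R D, R.b w x = 0 := fun x hx => by
  induction hx using AddSubgroup.closure_induction with
  | mem x hx =>
    obtain ⟨i, v, rfl⟩ := hx
    rw [R.b_add_right]
    nth_rewrite 1 [← hw i]
    rw [R.b_inv]
    exact CharTwo.add_self_eq_zero _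
  | zero => exact R.b_zero_right w
  | add x y _ _ hx hy => rw [R.b_add_right, hx, hy, add_zero]
  | neg x _ hx => rwa [neg_eq_of_add_eq_zero_left (R.two x)]

theorem card_mul_le (S : AddSubgroup V) (hS : ∀ w ∈ fixW R D, ∀ x ∈ S, R.b w x = 0) :
    Nat.card S * Nat.card (fixW R D) ≤ 4096 := by
  classical
  haveI := finite_V R
  haveI := Fact.mk Nat.prime_two
  have two : ∀ q : V ⧸ fixW R D, (2 : ℕ) • q = 0 := fun q => by
    obtain ⟨v, rfl⟩ := QuotientAddGroup.mk_surjective q
    rw [two_nsmul, ← QuotientAddGroup.mk_add, R.two]; rfl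
  let _ : Module (ZMod 2) (V ⧸ fixW R D) := AddCommGroup.zmodModule two
  let Φ : S → ((V ⧸ fixW R D) →+ ZMod 2) := fun x => QuotientAddGroup.lift (fixW R D)
    (AddMonoidHom.mk' (R.b (x : V)) (R.b_add_right _)) (fun w hw => by
      show R.b (x : V) w = 0
      rw [R.b_comm]; exact hS w hw x x.2)
  have hΦ : Function.Injective Φ := fun x y e => Subtype.ext (add_cancel2 R (R.nondeg _ fun v => by
    have : R.b (x : V) v = R.b (y : V) v := DFunLike.congr_fun e (QuotientAddGroup.mk v)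
    rw [R.b_add, this]; exact CharTwo.add_self_eq_zero _))
  have hdual : Nat.card ((V ⧸ fixW R D) →+ ZMod 2) = Nat.card (V ⧸ fixW R D) := by
    haveI : Module.Finite (ZMod 2) (V ⧸ fixW R D) := Module.Finite.of_finite
    rw [Nat.card_congr (Module.finBasis (ZMod 2) (V ⧸ fixW R D)).toDualEquiv.toEquiv]
    exact Nat.card_congr
      { toFun := fun f => f.toZModLinearMap 2
        invFun := fun f => f.toAddMonoidHom
        left_inv := fun f => rfl
        right_inv := fun f => rfl }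
  have : Finite ((V ⧸ fixW R D) →+ ZMod 2) := Finite.of_injective (fun f => ⇑f) DFunLike.coe_injective
  have h := Nat.card_le_card_of_injective Φ hΦ
  rw [hdual] at h
  calc Nat.card S * Nat.card (fixW R D) ≤ Nat.card (V ⧸ fixW R D) * Nat.card (fixW R D) :=
        Nat.mul_le_mul_right _ h
    _ = 4096 := by rw [← AddSubgroup.card_eq_card_quotient_mul_card_addSubgroup, R.card_V]

theorem halves : Nat.card (fixW R D) = 64 ∧ (∀ i v, R.ρ (D.r i) v + v ∈ fixW R D) ∧
    (∀ u ∈ fixW R D, ∀ v ∈ fixW R D, R.b u v = 0) ∧ ∀ v ∈ fixW R D, R.q v = 0 := by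
  haveI := finite_H D
  haveI := finite_V R
  have hinv : ∀ h ∈ Subgroup.normalizer (rGrp D : Set H), ∀ x ∈ commW R D, R.ρ h x ∈ commW R D := by
    intro h hh x hx
    induction hx using AddSubgroup.closure_induction with
    | mem x hx =>
      obtain ⟨i, v, rfl⟩ := hx
      have hs : h * D.r i * h⁻¹ ∈ rGrp D :=
        (Subgroup.mem_normalizer_iff.1 hh (D.r i)).1 (Subgroup.subset_closure ⟨i, rfl⟩)
      have key : ∀ s ∈ rGrp D, ∀ w, R.ρ s w + w ∈ commW R D := fun s hs => by
        induction hs using Subgroup.closure_induction with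
        | mem x hx =>
          obtain ⟨j, rfl⟩ := hx
          exact fun w => AddSubgroup.subset_closure ⟨j, w, rfl⟩
        | one => intro w; rw [R.one_apply, R.two]; exact zero_mem _
        | mul x y _ _ hx hy =>
          intro w
          rw [R.mul_apply, show R.ρ x (R.ρ y w) + w = (R.ρ x (R.ρ y w) + R.ρ y w) + (R.ρ y w + w) by
            rw [add_assoc, ← add_assoc (R.ρ y w), R.two, zero_add]]
          exact add_mem (hx _) (hy w)
        | inv x _ hx =>
          intro w
          have := hx (R.ρ x⁻¹ w)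
          rwa [← R.mul_apply, mul_inv_cancel, R.one_apply, add_comm] at this
      have := key _ hs (R.ρ h v)
      rwa [← R.mul_apply, inv_mul_cancel_right, R.mul_apply, ← map_add] at this
    | zero => rw [map_zero]; exact zero_mem _
    | add x y _ _ hx hy => rw [map_add]; exact add_mem hx hy
    | neg x _ hx => rw [map_neg]; exact neg_mem hx
  have hSne : ∃ x ∈ commW R D, x ≠ 0 := by
    by_contra hh
    push Not at hh
    have h0 : D.r 0 = 1 := R.faithful _ fun v => add_cancel2 R (hh _ (AddSubgroup.subset_closure ⟨0, v, rfl⟩))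
    exact D.t_ne ((Subgroup.mem_bot).1 (D.normal ⊥ inferInstance (by rw [h0]; exact one_mem _)))
  -- a nonzero fixed commutator
  have hIne : ∃ x ∈ commW R D ⊓ fixW R D, x ≠ 0 := by
    obtain ⟨x, hx, hx0⟩ := hSne
    have key : ∀ l : List (Fin 4), ∃ y ∈ commW R D, y ≠ 0 ∧ ∀ i ∈ l, R.ρ (D.r i) y = y := by
      intro l
      induction l with
      | nil => exact ⟨x, hx, hx0, fun i hi => absurd hi List.not_mem_nil⟩
      | cons j l ih =>
        obtain ⟨y, hy, hy0, hl⟩ := ih
        by_cases hj : R.ρ (D.r j) y = y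
        · exact ⟨y, hy, hy0, fun i hi => (List.mem_cons.1 hi).elim (fun e => by rw [e]; exact hj) (hl i)⟩
        refine ⟨R.ρ (D.r j) y + y, AddSubgroup.subset_closure ⟨j, y, rfl⟩,
          fun e => hj (add_cancel2 R e), fun i hi => ?_⟩
        rw [map_add, ← R.mul_apply, D.r_comm, R.mul_apply]
        rcases List.mem_cons.1 hi with rfl | hi
        · rw [← R.mul_apply, D.r_sq, R.one_apply, add_comm]
        · rw [hl i hi]
    obtain ⟨y, hy, hy0, hl⟩ := key (List.finRange 4)
    exact ⟨y, ⟨hy, fun i => hl i (List.mem_finRange i)⟩, hy0⟩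
  have hac : ∀ h ∈ acGrp D, ∀ x ∈ commW R D ⊓ fixW R D, R.ρ h x ∈ commW R D ⊓ fixW R D :=
    fun h hh x hx => ⟨hinv h (acGrp_norm D hh) x hx.1, ac_fixW R D hh hx.2⟩
  have h64 := big R D hfix _ (hac _ (Subgroup.subset_closure (by simp)))
    (hac _ (Subgroup.subset_closure (by simp))) (hac _ (Subgroup.subset_closure (by simp))) hIne
  have hmul := card_mul_le R D hfix _ fun w hw x hx => b_commW R D hw x hx
  have hS := Nat.le_of_dvd Nat.card_pos (AddSubgroup.card_dvd_of_le (K := commW R D) (H := commW R D ⊓ fixW R D) inf_le_left)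
  have hW := Nat.le_of_dvd Nat.card_pos (AddSubgroup.card_dvd_of_le (K := fixW R D) (H := commW R D ⊓ fixW R D) inf_le_right)
  have e1 : Nat.card (fixW R D) = 64 := by nlinarith
  have e2 : Nat.card (commW R D) = 64 := by nlinarith
  have eqS : commW R D ⊓ fixW R D = commW R D :=
    AddSubgroup.eq_of_le_of_card_ge inf_le_left (by omega)
  have eqW : commW R D ⊓ fixW R D = fixW R D :=
    AddSubgroup.eq_of_le_of_card_ge inf_le_right (by omega)
  have hSW : commW R D = fixW R D := eqS.symm.trans eqW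
  have hb : ∀ u ∈ fixW R D, ∀ v ∈ fixW R D, R.b u v = 0 := fun u hu v hv =>
    b_commW R D hu v (hSW ▸ hv)
  refine ⟨e1, fun i v => hSW ▸ AddSubgroup.subset_closure ⟨i, v, rfl⟩, hb, fun v hv => ?_⟩
  have htv : R.ρ D.t v ∈ fixW R D := ac_fixW R D (Subgroup.subset_closure (by simp)) hv
  have h := R.q_inv (D.t * D.t) v
  rw [R.mul_apply, t_sq R D hfix, R.q_add, R.q_inv, hb _ htv _ hv, add_zero] at h
  exact add_eq_left.mp h |> fun h' => h'

theorem halves' : Nat.card (fixW' R D) = 64 ∧ (∀ u ∈ fixW' R D, ∀ v ∈ fixW' R D, R.b u v = 0) ∧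
    ∀ v ∈ fixW' R D, R.q v = 0 := by
  obtain ⟨h1, -, h2, h3⟩ := halves R D hfix
  refine ⟨?_, ?_, ?_⟩
  · rw [← h1]
    exact (Nat.card_congr (AddSubgroup.equivMapOfInjective (fixW R D) (R.ρ D.g : V →+ V)
      (fun x y e => R.inj D.g e)).toEquiv).symm
  · intro u hu v hv
    obtain ⟨u', hu', rfl⟩ := AddSubgroup.mem_map.1 hu
    obtain ⟨v', hv', rfl⟩ := AddSubgroup.mem_map.1 hv
    exact (R.b_inv D.g u' v').trans (h2 u' hu' v' hv')
  · intro v hv
    obtain ⟨v', hv', rfl⟩ := AddSubgroup.mem_map.1 hv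
    exact (R.q_inv D.g v').trans (h3 v' hv')

theorem inter_eq : fixW R D ⊓ fixW' R D = ⊥ := by
  haveI := finite_H D
  haveI := finite_V R
  by_contra hne
  obtain ⟨x, hx, hx0⟩ : ∃ x ∈ fixW R D ⊓ fixW' R D, x ≠ 0 := by
    by_contra hh
    push Not at hh
    exact hne ((AddSubgroup.eq_bot_iff_forall _).2 hh)
  have hac : ∀ h ∈ acGrp D, ∀ x ∈ fixW R D ⊓ fixW' R D, R.ρ h x ∈ fixW R D ⊓ fixW' R D :=
    fun h hh x hx => ⟨ac_fixW R D hh hx.1, ac_fixW' R D hh hx.2⟩
  have h64 := big R D hfix _ (hac _ (Subgroup.subset_closure (by simp)))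
    (hac _ (Subgroup.subset_closure (by simp))) (hac _ (Subgroup.subset_closure (by simp))) ⟨x, hx, hx0⟩
  have e1 := (halves R D hfix).1
  have e2 := (halves' R D hfix).1
  have eA : fixW R D ⊓ fixW' R D = fixW R D := AddSubgroup.eq_of_le_of_card_ge inf_le_left (by omega)
  have eB : fixW R D ⊓ fixW' R D = fixW' R D := AddSubgroup.eq_of_le_of_card_ge inf_le_right (by omega)
  have hWW : fixW' R D = fixW R D := eB.symm.trans eA
  let P : Subgroup H :=
    { carrier := {h | ∀ w ∈ fixW R D, R.ρ h w ∈ fixW R D}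
      one_mem' := fun w hw => by rwa [R.one_apply]
      mul_mem' := fun {x y} hx hy w hw => by rw [R.mul_apply]; exact hx _ (hy w hw)
      inv_mem' := fun {x} hx w hw => by
        let f : fixW R D → fixW R D := fun w => ⟨R.ρ x w, hx w w.2⟩
        have hf : Function.Injective f := fun p q e => Subtype.ext (R.inj x (congrArg Subtype.val e))
        obtain ⟨w', hw'⟩ := (Finite.injective_iff_surjective.1 hf) ⟨w, hw⟩
        rw [← show R.ρ x (w' : V) = w from congrArg Subtype.val hw', R.inv_apply]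
        exact w'.2 }
  have hP : ∀ h, h ∈ P := by
    have : (⊤ : Subgroup H) ≤ P := by
      rw [← D.top]
      refine (Subgroup.closure_le _).2 ?_
      rintro y ((rfl | rfl | rfl | rfl) | ⟨i, rfl⟩)
      · exact fun w hw => ac_fixW R D (Subgroup.subset_closure (by simp)) hw
      · exact fun w hw => ac_fixW R D (Subgroup.subset_closure (by simp)) hw
      · intro w hw
        rw [← hWW]; exact AddSubgroup.mem_map.2 ⟨w, hw, rfl⟩
      · exact fun w hw => norm_fixW R D (u_norm D) hw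
      · intro w hw
        rw [hw i]; exact hw
    exact fun h => this (Subgroup.mem_top h)
  let N : Subgroup H :=
    { carrier := {h | ∀ w ∈ fixW R D, R.ρ h w = w}
      one_mem' := fun w _ => R.one_apply w
      mul_mem' := fun {x y} hx hy w hw => by rw [R.mul_apply, hy w hw, hx w hw]
      inv_mem' := fun {x} hx w hw => by
        conv_lhs => rw [← hx w hw]
        exact R.inv_apply x w }
  have hN : N.Normal := ⟨fun n hn g w hw => by
    rw [R.mul_apply, R.mul_apply, hn _ (hP g⁻¹ w hw), ← R.mul_apply, mul_inv_cancel, R.one_apply]⟩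
  exact hx0 (hfix x (D.normal N hN (fun w hw => hw 0) x hx.1))

end Fpf

end CfsgLib.J4Type.ModelExists
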